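import Mathlib
import Cfsg.Agent.H662.Jordan

/-!
# The 60 degree theorem (helper170)

`V` a complex inner product space, `G` a finite group of isometries, `S ∈ G` with `2 Re ⟨Sv,v⟩ ≥ |v|²` for all `v`
(all eigenvalues within 60 degrees of 1), `T ∈ G` with `Re ⟨Tv,v⟩ > 0` for all `v ≠ 0`. Then `T` leaves invariant the
fixed space of `S`.

Consequence (`cube_comm`): if `t`, `t'` are elements of a finite group with a faithful complex representation in which
both are killed by `(X - 1)(X² - X + 1)` then `t³` commutes with `t'`.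
-/

set_option autoImplicit false
set_option linter.unusedSectionVars false

namespace Cfsg.Agent.H170.RV

open Module

section unitary

variable {V : Type*} [NormedAddCommGroup V] [InnerProductSpace ℂ V] [FiniteDimensional ℂ V]
  {G : Type*} [Group G] [Finite G] {ρ : Representation ℂ G V}

theorem rmul (ρ : Representation ℂ G V) (g h : G) (v : V) : ρ (g * h) v = ρ g (ρ h v) := by
  rw [map_mul]; rfl

theorem rone (ρ : Representation ℂ G V) (v : V) : ρ 1 v = v := by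
  rw [map_one]; rfl

theorem rinv (ρ : Representation ℂ G V) (g : G) (v : V) : ρ g⁻¹ (ρ g v) = v := by
  rw [← rmul, inv_mul_cancel, rone]

/-- the sequence -/
def seq (S T : G) : ℕ → G
  | 0 => T
  | k + 1 => (seq S T k)⁻¹ * S * seq S T k

/-- **the 60 degree theorem** -/
theorem t60 (hρ : ∀ g u v, inner ℂ (ρ g u) (ρ g v) = inner ℂ u v) {S T : G}
    (hS : ∀ v, ‖v‖ ^ 2 / 2 ≤ (inner ℂ (ρ S v) v).re) (hT : ∀ v, v ≠ 0 → 0 < (inner ℂ (ρ T v) v).re)
    {v : V} (hv : ρ S v = v) : ρ S (ρ T v) = ρ T v := by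
  classical
  have hnorm : ∀ g v, ‖ρ g v‖ = ‖v‖ := by
    intro g v
    have h1 : ‖ρ g v‖ ^ 2 = ‖v‖ ^ 2 := by
      rw [← inner_self_eq_norm_sq (𝕜 := ℂ), ← inner_self_eq_norm_sq (𝕜 := ℂ), hρ]
    exact (sq_eq_sq₀ (norm_nonneg _) (norm_nonneg _)).mp h1
  set x := seq S T with hx
  have hx1 : ∀ k, x (k + 1) = (x k)⁻¹ * S * x k := fun k => rfl
  -- the recursion for the forms
  have hrec : ∀ k w, inner ℂ (ρ (x (k + 1)) w) w = inner ℂ (ρ S (ρ (x k) w)) (ρ (x k) w) := by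
    intro k w
    have h1 : ρ (x k) (ρ (x (k + 1)) w) = ρ S (ρ (x k) w) := by
      rw [← rmul, ← rmul, hx1]
      congr 2
      group
    rw [← h1, hρ]
  have hpos : ∀ k w, w ≠ 0 → 0 < (inner ℂ (ρ (x k) w) w).re := by
    intro k w hw
    rcases k with _ | k
    · exact hT w hw
    · rw [hrec]
      refine lt_of_lt_of_le ?_ (hS _)
      rw [hnorm]
      have := norm_pos_iff.mpr hw
      positivity
  -- the ascent
  let K : Submodule ℂ V := LinearMap.ker (ρ S - 1)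
  have hK : ∀ w, w ∈ K ↔ ρ S w = w := by
    intro w
    rw [LinearMap.mem_ker, LinearMap.sub_apply, sub_eq_zero]
    rfl
  -- the main estimate
  have hest : ∀ k (w : V), w ∈ K → ‖w‖ = 1 → ∃ a b : V, a ∈ K ∧ ρ (x k) w = a + b ∧ ‖a‖ ^ 2 + ‖b‖ ^ 2 = 1 ∧
      ‖inner ℂ (ρ (x k) w) w‖ ≤ ‖a‖ ∧ (1 + ‖a‖ ^ 2) / 2 ≤ (inner ℂ (ρ (x (k + 1)) w) w).re := by
    intro k w hw hw1
    set u := ρ (x k) w with hu
    set a := K.starProjection u with ha
    have haK : a ∈ K := Submodule.starProjection_apply_mem _ _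
    have hbK : u - a ∈ Kᗮ := Submodule.sub_starProjection_mem_orthogonal _
    have hab : inner ℂ a (u - a) = 0 := (Submodule.mem_orthogonal _ _).mp hbK _ haK
    have hba : inner ℂ (u - a) a = 0 := by rw [← inner_conj_symm, hab, map_zero]
    have hn : ‖a‖ ^ 2 + ‖u - a‖ ^ 2 = 1 := by
      have h1 : ‖a + (u - a)‖ * ‖a + (u - a)‖ = ‖a‖ * ‖a‖ + ‖u - a‖ * ‖u - a‖ :=
        norm_add_sq_eq_norm_sq_add_norm_sq_of_inner_eq_zero _ _ hab
      rw [add_sub_cancel, hu, hnorm, hw1] at h1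
      nlinarith
    refine ⟨a, u - a, haK, by abel, hn, ?_, ?_⟩
    · have h1 : inner ℂ u w = inner ℂ a w := by
        have h2 : inner ℂ (u - a) w = 0 := by
          rw [← inner_conj_symm, (Submodule.mem_orthogonal _ _).mp hbK _ hw, map_zero]
        rw [inner_sub_left, sub_eq_zero] at h2
        exact h2
      rw [h1]
      have := norm_inner_le_norm (𝕜 := ℂ) a w
      rwa [hw1, mul_one] at this
    · rw [hrec, ← hu]
      have hSa : ρ S a = a := (hK a).mp haK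
      have h1 : inner ℂ (ρ S u) u = inner ℂ a a + inner ℂ (ρ S (u - a)) (u - a) := by
        have h2 : u = a + (u - a) := by abel
        have h3 : inner ℂ (ρ S (u - a)) a = 0 := by
          have := hρ S (u - a) a
          rw [hSa] at this
          rw [this, hba]
        have h4 : inner ℂ (ρ S u) u = inner ℂ (ρ S (a + (u - a))) (a + (u - a)) := by rw [← h2]
        rw [h4, map_add, hSa, inner_add_left, inner_add_right, inner_add_right, hab, h3]
        ring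
      rw [h1, Complex.add_re]
      have h2 := hS (u - a)
      have h3 : (inner ℂ a a : ℂ).re = ‖a‖ ^ 2 := by
        rw [← inner_self_eq_norm_sq (𝕜 := ℂ)]
        rfl
      rw [h3]
      linarith
  -- monotonicity
  have hmono : ∀ w : V, w ∈ K → ‖w‖ = 1 → ∀ k, ‖inner ℂ (ρ (x k) w) w‖ ≤ ‖inner ℂ (ρ (x (k + 1)) w) w‖ ∧
      (‖inner ℂ (ρ (x k) w) w‖ = ‖inner ℂ (ρ (x (k + 1)) w) w‖ → ρ (x k) w ∈ K) := by
    intro w hw hw1 k
    obtain ⟨a, b, haK, hab, hn, h1, h2⟩ := hest k w hw hw1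
    have h3 : (inner ℂ (ρ (x (k + 1)) w) w : ℂ).re ≤ ‖inner ℂ (ρ (x (k + 1)) w) w‖ := Complex.re_le_norm _
    have ha0 := norm_nonneg a
    have hb0 := norm_nonneg b
    refine ⟨by nlinarith [sq_nonneg (‖a‖ - 1)], fun heq => ?_⟩
    have h4 : ‖a‖ = 1 := by nlinarith [sq_nonneg (‖a‖ - 1)]
    have h5 : ‖b‖ = 0 := by
      rw [h4] at hn
      nlinarith
    rw [hab, norm_eq_zero.mp h5, add_zero]
    exact haK
  -- a repetition
  obtain ⟨i, hi⟩ : ∃ i, ∀ w ∈ K, ρ (x i) w ∈ K := by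
    obtain ⟨i, j, hij, hxij⟩ : ∃ i j, i < j ∧ x i = x j := by
      have hni : ¬ Function.Injective x := not_injective_infinite_finite x
      rw [Function.Injective] at hni
      push Not at hni
      obtain ⟨i, j, h1, h2⟩ := hni
      rcases lt_or_gt_of_ne h2 with h | h
      · exact ⟨i, j, h, h1⟩
      · exact ⟨j, i, h, h1.symm⟩
    refine ⟨i, fun w hw => ?_⟩
    by_cases hw0 : w = 0
    · rw [hw0, map_zero]
      exact K.zero_mem
    have hn0 : ‖w‖ ≠ 0 := norm_ne_zero_iff.mpr hw0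
    set w' : V := ((‖w‖⁻¹ : ℝ) : ℂ) • w with hw'
    have hw'K : w' ∈ K := K.smul_mem _ hw
    have hw'1 : ‖w'‖ = 1 := by
      rw [hw', norm_smul, Complex.norm_real, norm_inv, norm_norm, inv_mul_cancel₀ hn0]
    have hm : Monotone fun k => ‖inner ℂ (ρ (x k) w') w'‖ := monotone_nat_of_le_succ fun k => (hmono w' hw'K hw'1 k).1
    have h1 : ‖inner ℂ (ρ (x i) w') w'‖ = ‖inner ℂ (ρ (x (i + 1)) w') w'‖ := by
      refine le_antisymm (hm (Nat.le_succ i)) ?_
      have h2 : ‖inner ℂ (ρ (x (i + 1)) w') w'‖ ≤ ‖inner ℂ (ρ (x j) w') w'‖ := hm hij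
      rwa [← hxij] at h2
    have h2 := (hmono w' hw'K hw'1 i).2 h1
    have h3 : w = ((‖w‖ : ℝ) : ℂ) • w' := by
      rw [hw', smul_smul, ← Complex.ofReal_mul, mul_inv_cancel₀ hn0, Complex.ofReal_one, one_smul]
    rw [h3, map_smul]
    exact K.smul_mem _ h2
  -- the descent
  have hdesc : ∀ k, (∀ w ∈ K, ρ (x (k + 1)) w ∈ K) → ∀ w ∈ K, ρ (x k) w ∈ K := by
    intro k hk w hw
    set u := ρ (x (k + 1)) w - w with hu
    have huK : u ∈ K := K.sub_mem (hk w hw) hw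
    have h1 : ρ (x k) u = ρ S (ρ (x k) w) - ρ (x k) w := by
      rw [hu, map_sub, ← rmul, ← rmul, hx1]
      congr 3
      group
    have h2 : inner ℂ (ρ (x k) u) u = (0 : ℂ) := by
      rw [h1, inner_sub_left, sub_eq_zero]
      have h3 := hρ S (ρ (x k) w) u
      rw [(hK u).mp huK] at h3
      exact h3
    have h3 : u = 0 := by
      by_contra hne
      have := hpos k u hne
      rw [h2] at this
      exact lt_irrefl _ this
    rw [hK]
    rw [h3, map_zero] at h1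
    exact (sub_eq_zero.mp h1.symm)
  have hall : ∀ n, n ≤ i → ∀ w ∈ K, ρ (x (i - n)) w ∈ K := by
    intro n
    induction n with
    | zero => intro _; simpa using hi
    | succ n ih =>
      intro hn
      refine hdesc (i - (n + 1)) ?_
      have h1 : i - (n + 1) + 1 = i - n := by omega
      rw [h1]
      exact ih (by omega)
  have h0 := hall i le_rfl v ((hK v).mpr hv)
  rw [Nat.sub_self] at h0
  exact (hK _).mp h0

/-- the polynomial condition implies the condition on the numerical range -/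
theorem re_of_poly (hρ : ∀ g u v, inner ℂ (ρ g u) (ρ g v) = inner ℂ u v) {S : G}
    (hp : ∀ v, ρ S (ρ S (ρ S v)) - (2 : ℂ) • ρ S (ρ S v) + (2 : ℂ) • ρ S v - v = 0) (v : V) :
    ‖v‖ ^ 2 / 2 ≤ (inner ℂ (ρ S v) v).re := by
  set a := ρ S (ρ S v) - ρ S v + v with ha
  have hSa : ρ S a = a := by
    have h2 := hp v
    have h3 : ρ S (ρ S (ρ S v)) = v - (2 : ℂ) • ρ S v + (2 : ℂ) • ρ S (ρ S v) := by
      rw [← sub_eq_zero, ← h2]
      abel
    rw [ha, map_add, map_sub, h3, two_smul, two_smul]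
    abel
  have h1 : inner ℂ a (ρ S v) = (inner ℂ a v : ℂ) := by
    have := hρ S a v
    rwa [hSa] at this
  have h2 : inner ℂ a (ρ S (ρ S v)) = (inner ℂ a v : ℂ) := by
    have := hρ S a (ρ S v)
    rwa [hSa, h1] at this
  have h3 : (inner ℂ a a : ℂ) = inner ℂ a v := by
    calc (inner ℂ a a : ℂ) = inner ℂ a (ρ S (ρ S v) - ρ S v + v) := by rw [← ha]
      _ = inner ℂ a v := by rw [inner_add_right, inner_sub_right, h1, h2]; ring
  have h4 : (inner ℂ a v : ℂ) = inner ℂ (ρ S (ρ S v)) v - inner ℂ (ρ S v) v + inner ℂ v v := by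
    rw [ha, inner_add_left, inner_sub_left]
  have h5 : (inner ℂ (ρ S (ρ S v)) v : ℂ) - 2 * inner ℂ (ρ S v) v + 2 * inner ℂ v v - inner ℂ v (ρ S v) = 0 := by
    have h6 : (inner ℂ (ρ S (ρ S (ρ S v)) - (2 : ℂ) • ρ S (ρ S v) + (2 : ℂ) • ρ S v - v) (ρ S v) : ℂ) = 0 := by
      rw [hp v, inner_zero_left]
    rw [inner_sub_left, inner_add_left, inner_sub_left, inner_smul_left, inner_smul_left, hρ, hρ, hρ, Complex.conj_ofNat] at h6
    exact h6
  have h7 : (inner ℂ v (ρ S v) : ℂ).re = (inner ℂ (ρ S v) v : ℂ).re := by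
    rw [← inner_conj_symm, Complex.conj_re]
  have h8 : (inner ℂ a a : ℂ).re = ‖a‖ ^ 2 := by
    rw [← inner_self_eq_norm_sq (𝕜 := ℂ)]
    rfl
  have h9 : (inner ℂ v v : ℂ).re = ‖v‖ ^ 2 := by
    rw [← inner_self_eq_norm_sq (𝕜 := ℂ)]
    rfl
  have h10 := congrArg Complex.re h5
  have h11 := congrArg Complex.re h4
  simp only [Complex.sub_re, Complex.add_re, Complex.mul_re, Complex.re_ofNat, Complex.im_ofNat, zero_mul, sub_zero,
    Complex.zero_re] at h10 h11
  rw [← h3, h8] at h11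
  have := sq_nonneg ‖a‖
  rw [h7] at h10
  linarith

theorem cube_comm_aux (hρ : ∀ g u v, inner ℂ (ρ g u) (ρ g v) = inner ℂ u v)
    (hinj : Function.Injective ρ) {S T : G}
    (hS : ∀ v, ρ S (ρ S (ρ S v)) - (2 : ℂ) • ρ S (ρ S v) + (2 : ℂ) • ρ S v - v = 0)
    (hT : ∀ v, ρ T (ρ T (ρ T v)) - (2 : ℂ) • ρ T (ρ T v) + (2 : ℂ) • ρ T v - v = 0) :
    S ^ 3 * T = T * S ^ 3 := by
  have h1 : ∀ v, ρ S v = v → ρ S (ρ T v) = ρ T v := fun v hv =>
    t60 hρ (re_of_poly hρ hS) (fun v hv => lt_of_lt_of_le (by have := norm_pos_iff.mpr hv; positivity)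
      (re_of_poly hρ hT v)) hv
  -- the inverse of `T` too
  have hT' : ∀ v, ρ T⁻¹ (ρ T⁻¹ (ρ T⁻¹ v)) - (2 : ℂ) • ρ T⁻¹ (ρ T⁻¹ v) + (2 : ℂ) • ρ T⁻¹ v - v = 0 := by
    intro v
    have h2 := hT (ρ T⁻¹ (ρ T⁻¹ (ρ T⁻¹ v)))
    have h3 : ∀ w, ρ T (ρ T⁻¹ w) = w := fun w => by rw [← rmul, mul_inv_cancel, rone]
    simp only [h3] at h2
    rw [← neg_eq_zero, ← h2]
    abel
  have h1' : ∀ v, ρ S v = v → ρ S (ρ T⁻¹ v) = ρ T⁻¹ v := fun v hv =>
    t60 hρ (re_of_poly hρ hS) (fun v hv => lt_of_lt_of_le (by have := norm_pos_iff.mpr hv; positivity)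
      (re_of_poly hρ hT' v)) hv
  have hcube : ∀ v, ρ (S ^ 3) v = ρ S (ρ S (ρ S v)) := by
    intro v
    rw [pow_succ, pow_two, rmul, rmul]
  apply hinj
  apply LinearMap.ext
  intro v
  -- `v = a + b`
  have key : ∀ v, ρ (S ^ 3) v = (2 : ℂ) • (ρ S (ρ S v) - ρ S v + v) - v := by
    intro v
    rw [hcube, ← sub_eq_zero, ← hS v, smul_add, smul_sub, two_smul, two_smul, two_smul]
    abel
  have hfix : ∀ v, ρ S (ρ S (ρ S v) - ρ S v + v) = ρ S (ρ S v) - ρ S v + v := by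
    intro v
    rw [map_add, map_sub, ← sub_eq_zero, ← hS v, two_smul, two_smul]
    abel
  -- `P v := S² v - S v + v`; `P` is the projection to the fixed space, `T P v` is fixed, `P T (1 - P) v = 0`
  have hPfix : ∀ w, ρ S w = w → ρ S (ρ S w) - ρ S w + w = w := by
    intro w hw
    rw [hw, hw]
    abel
  have hort : ∀ w, ρ S (ρ S w) - ρ S w + w = 0 → ρ S (ρ S (ρ T w)) - ρ S (ρ T w) + ρ T w = 0 := by
    intro w hw
    set a := ρ S (ρ S (ρ T w)) - ρ S (ρ T w) + ρ T w with ha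
    have hSa : ρ S a = a := hfix _
    -- `⟨a, a⟩ = ⟨a, T w⟩ = ⟨T⁻¹ a, w⟩ = 0`
    have h2 : ∀ (c u : V), ρ S c = c → (inner ℂ c (ρ S u) : ℂ) = inner ℂ c u := by
      intro c u hc
      have := hρ S c u
      rwa [hc] at this
    have h3 : (inner ℂ a a : ℂ) = inner ℂ a (ρ T w) := by
      calc (inner ℂ a a : ℂ) = inner ℂ a (ρ S (ρ S (ρ T w)) - ρ S (ρ T w) + ρ T w) := by rw [← ha]
        _ = inner ℂ a (ρ T w) := by rw [inner_add_right, inner_sub_right, h2 _ _ hSa, h2 _ _ hSa]; ring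
    have h4 : (inner ℂ a (ρ T w) : ℂ) = inner ℂ (ρ T⁻¹ a) w := by
      rw [← hρ T (ρ T⁻¹ a) w, ← rmul, mul_inv_cancel, rone]
    have h5 : ρ S (ρ T⁻¹ a) = ρ T⁻¹ a := h1' a hSa
    have h6 : (inner ℂ (ρ T⁻¹ a) w : ℂ) = 0 := by
      have h7 : (inner ℂ (ρ T⁻¹ a) (ρ S (ρ S w) - ρ S w + w) : ℂ) = 0 := by rw [hw, inner_zero_right]
      rw [inner_add_right, inner_sub_right, h2 _ _ h5, h2 _ _ h5] at h7
      simpa using h7
    rw [h4, h6] at h3
    exact inner_self_eq_zero.mp h3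
  -- compute
  set p := ρ S (ρ S v) - ρ S v + v with hp
  have hpS : ρ S p = p := hfix v
  have hq : ρ S (ρ S (v - p)) - ρ S (v - p) + (v - p) = 0 := by
    have h8 := hPfix p hpS
    have h9 : ρ S (ρ S (v - p)) - ρ S (v - p) + (v - p) = (ρ S (ρ S v) - ρ S v + v) -
        (ρ S (ρ S p) - ρ S p + p) := by
      simp only [map_sub]
      abel
    rw [h9, h8, ← hp, sub_self]
  have hTp : ρ S (ρ S (ρ T v)) - ρ S (ρ T v) + ρ T v = ρ T p := by
    have h8 := hort (v - p) hq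
    have h9 := hPfix (ρ T p) (h1 p hpS)
    have h10 : ρ S (ρ S (ρ T v)) - ρ S (ρ T v) + ρ T v =
        (ρ S (ρ S (ρ T (v - p))) - ρ S (ρ T (v - p)) + ρ T (v - p)) +
        (ρ S (ρ S (ρ T p)) - ρ S (ρ T p) + ρ T p) := by
      simp only [map_sub]
      abel
    rw [h10, h8, h9, zero_add]
  rw [rmul, rmul, key, key, hTp, ← hp, map_sub, map_smul]

end unitary

/-- **the cubes commute**: `G` finite, `ρ` a faithful complex representation, `S`, `T` killed by `(X-1)(X²-X+1)`. -/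
theorem cube_comm {V : Type*} [AddCommGroup V] [Module ℂ V] [FiniteDimensional ℂ V] {G : Type*} [Group G] [Finite G]
    (ρ : Representation ℂ G V) (hinj : Function.Injective ρ) {S T : G}
    (hS : ∀ v, ρ S (ρ S (ρ S v)) - (2 : ℂ) • ρ S (ρ S v) + (2 : ℂ) • ρ S v - v = 0)
    (hT : ∀ v, ρ T (ρ T (ρ T v)) - (2 : ℂ) • ρ T (ρ T v) + (2 : ℂ) • ρ T v - v = 0) :
    S ^ 3 * T = T * S ^ 3 := by
  have hfin := Fintype.ofFinite G
  let i1 : NormedAddCommGroup V := (H662.Jordan.core ρ).toNormedAddCommGroup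
  let i2 : InnerProductSpace ℂ V := InnerProductSpace.ofCore (H662.Jordan.core ρ).toCore
  have hinv : ∀ (g : G) (v w : V), inner ℂ (ρ g v) (ρ g w) = inner ℂ v w := by
    intro g v w
    show ∑ h : G, _ = ∑ h : G, _
    refine Fintype.sum_equiv (Equiv.mulRight g) _ _ fun h => ?_
    rw [Equiv.coe_mulRight, map_mul, Module.End.mul_apply, Module.End.mul_apply]
  exact cube_comm_aux hinv hinj hS hT

end Cfsg.Agent.H170.RV
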