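import Mathlib
import Cfsg.Agent.H348.Lift
import Cfsg.Agent.H717.Rep
import Cfsg.Agent.H170.RV.T60

/-!
# Lifting modules of `p'`-groups to the complex numbers (helper170)

`exists_complex`: a faithful module of a `p'`-group over a field of characteristic `p` gives a faithful complex
module; an element killed by an integral polynomial `f` in characteristic `p` is killed by `f` over `ℂ`, if `f` and `g`
are coprime modulo `p` and `X ^ m - 1` divides `f g`, `t ^ m = 1`.

`cube_comm_p`: the consequence of the 60 degree theorem in characteristic `p ≥ 5`.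
-/

set_option autoImplicit false
set_option linter.unusedSectionVars false

namespace Cfsg.Agent.H170.RV

open Module Polynomial

theorem eq_zero_of_pow_dvd {p : ℕ} [hp : Fact p.Prime] {x : ℤ_[p]} (h : ∀ k : ℕ, (p : ℤ_[p]) ^ k ∣ x) : x = 0 := by
  by_contra hne
  have h1 : FiniteMultiplicity (p : ℤ_[p]) x :=
    FiniteMultiplicity.of_not_isUnit PadicInt.prime_p.not_isUnit hne
  obtain ⟨n, hn⟩ := h1
  exact hn (h (n + 1))

/-- the polynomial relation lifts -/
theorem lift_poly {p : ℕ} [hp : Fact p.Prime] {n : ℕ} (A : Matrix (Fin n) (Fin n) ℤ_[p]) (f g u w : ℤ[X]) (c : ℤ)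
    (hc : ¬ (p : ℤ) ∣ c) (huw : u * f + w * g = C c) (hfg : aeval A (f * g) = 0)
    (hf : aeval (A.map (PadicInt.toZMod (p := p))) f = 0) : aeval A f = 0 := by
  set E := aeval A f with hE
  set U := aeval A u with hU
  have hunit : IsUnit ((c : ℤ) : ℤ_[p]) := by
    rw [PadicInt.isUnit_iff]
    by_contra hne
    have h1 : ‖((c : ℤ) : ℤ_[p])‖ < 1 := lt_of_le_of_ne (PadicInt.norm_le_one _) hne
    rw [PadicInt.norm_intCast_lt_one_iff] at h1
    exact hc h1
  obtain ⟨d, hd⟩ := hunit.exists_left_inv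
  -- `c E = U E²`
  have h1 : ((c : ℤ) : ℤ_[p]) • E = U * (E * E) := by
    have h2 : u * (f * f) = C c * f - w * (f * g) := by
      rw [← huw]
      ring
    have h3 := congrArg (aeval A) h2
    rw [map_mul, map_mul, map_sub, map_mul, map_mul, hfg, mul_zero, sub_zero, aeval_C] at h3
    rw [← hE, ← hU] at h3
    rw [h3]
    simp [Algebra.smul_def]
  have h2 : E = d • (U * (E * E)) := by
    rw [← h1, smul_smul, hd, one_smul]
  -- `E` is divisible by `p`
  have h3 : ∃ E1 : Matrix (Fin n) (Fin n) ℤ_[p], E = (p : ℤ_[p]) • E1 := by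
    have h4 : E.map (PadicInt.toZMod (p := p)) = 0 := by
      have h5 : ((PadicInt.toZMod (p := p)).mapMatrix : Matrix (Fin n) (Fin n) ℤ_[p] →+* _) (aeval A f) =
          aeval (A.map (PadicInt.toZMod (p := p))) f := by
        have h6 := Polynomial.map_aeval_eq_aeval_map
          (φ := RingHom.id ℤ) (ψ := ((PadicInt.toZMod (p := p)).mapMatrix : Matrix (Fin n) (Fin n) ℤ_[p] →+* _))
          (by ext; simp) f A
        rw [h6, Polynomial.map_id]
        rfl
      rw [hf] at h5
      exact h5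
    have h5 : ∀ i j, ∃ y, E i j = (p : ℤ_[p]) * y := by
      intro i j
      have h6 : PadicInt.toZMod (E i j) = 0 := congrFun (congrFun h4 i) j
      have h7 : E i j ∈ RingHom.ker (PadicInt.toZMod (p := p)) := h6
      rw [PadicInt.ker_toZMod, PadicInt.maximalIdeal_eq_span_p, Ideal.mem_span_singleton] at h7
      exact h7
    choose E1 hE1 using h5
    refine ⟨Matrix.of E1, ?_⟩
    ext i j
    rw [Matrix.smul_apply, Matrix.of_apply, smul_eq_mul, hE1]
  obtain ⟨E1, hE1⟩ := h3
  have h4 : ∀ k : ℕ, ∃ Ek : Matrix (Fin n) (Fin n) ℤ_[p], E = ((p : ℤ_[p]) ^ k) • Ek := by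
    intro k
    induction k with
    | zero => exact ⟨E, by rw [pow_zero, one_smul]⟩
    | succ k ih =>
      obtain ⟨Ek, hEk⟩ := ih
      refine ⟨d • (U * (Ek * E1)), ?_⟩
      calc E = d • (U * (E * E)) := h2
        _ = d • (U * ((((p : ℤ_[p]) ^ k) • Ek) * ((p : ℤ_[p]) • E1))) := by rw [← hEk, ← hE1]
        _ = ((p : ℤ_[p]) ^ (k + 1)) • d • (U * (Ek * E1)) := by
          rw [Matrix.smul_mul, Matrix.mul_smul, smul_smul, Matrix.mul_smul, Matrix.mul_smul, smul_smul, smul_smul,
            pow_succ]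
          congr 1
          ring
  ext i j
  refine eq_zero_of_pow_dvd fun k => ?_
  obtain ⟨Ek, hEk⟩ := h4 k
  exact ⟨Ek i j, by rw [hEk, Matrix.smul_apply, smul_eq_mul]⟩

/-- **lifting to the complex numbers** -/
theorem exists_complex {p : ℕ} [hp : Fact p.Prime] {F : Type*} [Field F] [CharP F p] {D : Type*} [Group D] [Finite D]
    {E : Type*} [AddCommGroup E] [Module F E] [Finite E] (ρ : Representation F D E) (hρ : Function.Injective ρ)
    (hc : ¬ p ∣ Nat.card D) : ∃ (n : ℕ) (ρ' : Representation ℂ D (Fin n → ℂ)), Function.Injective ρ' ∧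
      ∀ (t : D) (f g u w : ℤ[X]) (c : ℤ) (m : ℕ), ¬ (p : ℤ) ∣ c → u * f + w * g = C c → X ^ m - 1 ∣ f * g →
        t ^ m = 1 → aeval (ρ t) f = 0 → aeval (ρ' t) f = 0 := by
  classical
  have hpE : ∀ e : E, p • e = 0 := by
    intro e
    rw [← Nat.cast_smul_eq_nsmul F, CharP.cast_eq_zero, zero_smul]
  let _ : Module (ZMod p) E := AddCommGroup.zmodModule (n := p) hpE
  let θ : D →* Module.End (ZMod p) E :=
    { toFun := fun g => AddMonoidHom.toZModLinearMap p (ρ g).toAddMonoidHom
      map_one' := by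
        refine LinearMap.ext fun v => ?_
        show ρ 1 v = v
        rw [map_one]; rfl
      map_mul' := fun g g' => by
        refine LinearMap.ext fun v => ?_
        show ρ (g * g') v = ρ g (ρ g' v)
        rw [map_mul]; rfl }
  have : Module.Finite (ZMod p) E := Module.Finite.of_finite
  let n := finrank (ZMod p) E
  let b : Module.Basis (Fin n) (ZMod p) E := Module.finBasis (ZMod p) E
  let f : D →* Matrix (Fin n) (Fin n) (ZMod p) :=
    (LinearMap.toMatrixAlgEquiv b : Module.End (ZMod p) E ≃ₐ[ZMod p] _).toAlgHom.toRingHom.toMonoidHom.comp θ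
  have hfinj : Function.Injective f.toHomUnits := by
    intro a c hac
    have h2 : f a = f c := congrArg (fun x : GL (Fin n) (ZMod p) => (x : Matrix (Fin n) (Fin n) (ZMod p))) hac
    have h3 : θ a = θ c := (LinearMap.toMatrixAlgEquiv b).injective h2
    apply hρ
    apply LinearMap.ext
    intro e
    exact LinearMap.congr_fun h3 e
  have hcop : (Nat.card D).Coprime p := ((Nat.Prime.coprime_iff_not_dvd hp.out).2 hc).symm
  obtain ⟨τ, hτ⟩ := Cfsg.Agent.H348.Lift.exists_lift hcop f.toHomUnits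
  obtain ⟨ι, hι⟩ := Cfsg.Agent.H717.Rep.exists_padic_embedding p
  have hτi : Function.Injective τ := by
    intro a b hab
    apply hfinj
    rw [← hτ, ← hτ, hab]
  let h : D →* Matrix (Fin n) (Fin n) ℂ :=
    (ι.mapMatrix : Matrix (Fin n) (Fin n) ℤ_[p] →+* Matrix (Fin n) (Fin n) ℂ).toMonoidHom.comp
      ((Units.coeHom _).comp τ)
  have hh : Function.Injective h := by
    intro a b hab
    apply hτi
    apply Units.ext
    have h1 : ((τ a : GL (Fin n) ℤ_[p]) : Matrix (Fin n) (Fin n) ℤ_[p]).map ι =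
      ((τ b : GL (Fin n) ℤ_[p]) : Matrix (Fin n) (Fin n) ℤ_[p]).map ι := hab
    exact Matrix.map_injective hι h1
  refine ⟨n, (Matrix.toLinAlgEquiv' : Matrix (Fin n) (Fin n) ℂ ≃ₐ[ℂ] _).toAlgHom.toRingHom.toMonoidHom.comp h, ?_, ?_⟩
  · intro a b hab
    exact hh (Matrix.toLinAlgEquiv'.injective hab)
  · intro t f' g u w c m hc huw hdvd htm hft
    -- in `ZMod p`-matrices
    have h1 : aeval (θ t) f' = 0 := by
      apply LinearMap.ext
      intro v
      have h2 : ∀ q : ℤ[X], ∀ v : E, (aeval (θ t) q) v = (aeval (ρ t) q) v := by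
        intro q
        induction q using Polynomial.induction_on' with
        | add a b ha hb =>
          intro v
          rw [map_add, map_add, LinearMap.add_apply, LinearMap.add_apply, ha, hb]
        | monomial k a =>
          intro v
          rw [← C_mul_X_pow_eq_monomial, map_mul, map_mul, map_pow, map_pow, aeval_X, aeval_X, aeval_C, aeval_C]
          have h3 : ∀ k : ℕ, ∀ v : E, ((θ t) ^ k) v = ((ρ t) ^ k) v := by
            intro k
            induction k with
            | zero => intro v; rfl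
            | succ k ih =>
              intro v
              rw [pow_succ, pow_succ, Module.End.mul_apply, Module.End.mul_apply]
              exact ih _
          rw [Module.End.mul_apply, Module.End.mul_apply, h3]
          simp
      rw [h2, hft]
      rfl
    have h2 : aeval (f t) f' = 0 := by
      have h3 : f t = (LinearMap.toMatrixAlgEquiv b : Module.End (ZMod p) E ≃ₐ[ZMod p] _) (θ t) := rfl
      have h4 := Polynomial.map_aeval_eq_aeval_map
        (φ := RingHom.id ℤ) (ψ := ((LinearMap.toMatrixAlgEquiv b : Module.End (ZMod p) E ≃ₐ[ZMod p] _) :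
          Module.End (ZMod p) E →+* Matrix (Fin n) (Fin n) (ZMod p)))
        (by ext; simp) f' (θ t)
      rw [h1, map_zero, Polynomial.map_id] at h4
      exact h4.symm
    have h3 : aeval ((τ t : GL (Fin n) ℤ_[p]) : Matrix (Fin n) (Fin n) ℤ_[p]) f' = 0 := by
      refine lift_poly _ f' g u w c hc huw ?_ ?_
      · obtain ⟨q, hq⟩ := hdvd
        have h4 : aeval ((τ t : GL (Fin n) ℤ_[p]) : Matrix (Fin n) (Fin n) ℤ_[p]) (X ^ m - 1 : ℤ[X]) = 0 := by
          rw [map_sub, map_pow, aeval_X, map_one, ← Units.val_pow_eq_pow_val, ← map_pow, htm, map_one, Units.val_one,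
            sub_self]
        rw [hq, map_mul, h4, zero_mul]
      · have h4 : ((τ t : GL (Fin n) ℤ_[p]) : Matrix (Fin n) (Fin n) ℤ_[p]).map (PadicInt.toZMod (p := p)) = f t :=
          congrArg (fun x : GL (Fin n) (ZMod p) => (x : Matrix (Fin n) (Fin n) (ZMod p))) (hτ t)
        rw [h4, h2]
    have h4 : aeval (h t) f' = 0 := by
      have h5 := Polynomial.map_aeval_eq_aeval_map
        (φ := RingHom.id ℤ) (ψ := (ι.mapMatrix : Matrix (Fin n) (Fin n) ℤ_[p] →+* Matrix (Fin n) (Fin n) ℂ))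
        (by ext; simp) f' ((τ t : GL (Fin n) ℤ_[p]) : Matrix (Fin n) (Fin n) ℤ_[p])
      rw [h3, map_zero, Polynomial.map_id] at h5
      exact h5.symm
    have h5 := Polynomial.map_aeval_eq_aeval_map
      (φ := RingHom.id ℤ) (ψ := ((Matrix.toLinAlgEquiv' : Matrix (Fin n) (Fin n) ℂ ≃ₐ[ℂ] _) :
        Matrix (Fin n) (Fin n) ℂ →+* Module.End ℂ (Fin n → ℂ)))
      (by ext; simp) f' (h t)
    rw [h4, map_zero, Polynomial.map_id] at h5
    exact h5.symm

/-- **the cubes commute** in characteristic `p ≥ 5` -/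
theorem cube_comm_p {p : ℕ} (hp : p.Prime) (hp5 : 5 ≤ p) {F : Type*} [Field F] [CharP F p] {D : Type*} [Group D]
    [Finite D] {E : Type*} [AddCommGroup E] [Module F E] [Finite E] (ρ : Representation F D E)
    (hρ : Function.Injective ρ) (hc : ¬ p ∣ Nat.card D) {S T : D}
    (hS : ∀ v, ρ S (ρ S (ρ S v)) - (2 : F) • ρ S (ρ S v) + (2 : F) • ρ S v - v = 0)
    (hT : ∀ v, ρ T (ρ T (ρ T v)) - (2 : F) • ρ T (ρ T v) + (2 : F) • ρ T v - v = 0) :
    S ^ 3 * T = T * S ^ 3 := by
  have : Fact p.Prime := ⟨hp⟩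
  obtain ⟨n, ρ', hρ', hlift⟩ := exists_complex ρ hρ hc
  let f : ℤ[X] := X ^ 3 - 2 * X ^ 2 + 2 * X - 1
  let g : ℤ[X] := X ^ 3 + 2 * X ^ 2 + 2 * X + 1
  have hfg : f * g = X ^ 6 - 1 := by
    show (X ^ 3 - 2 * X ^ 2 + 2 * X - 1 : ℤ[X]) * (X ^ 3 + 2 * X ^ 2 + 2 * X + 1) = X ^ 6 - 1
    ring
  have key : ∀ R : D, (∀ v, ρ R (ρ R (ρ R v)) - (2 : F) • ρ R (ρ R v) + (2 : F) • ρ R v - v = 0) →
      ∀ v, ρ' R (ρ' R (ρ' R v)) - (2 : ℂ) • ρ' R (ρ' R v) + (2 : ℂ) • ρ' R v - v = 0 := by
    intro R hR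
    have h1 : aeval (ρ R) f = 0 := by
      apply LinearMap.ext
      intro v
      have h2 : aeval (ρ R) f = (ρ R) ^ 3 - (2 : F) • (ρ R) ^ 2 + (2 : F) • ρ R - 1 := by
        show aeval (ρ R) (X ^ 3 - 2 * X ^ 2 + 2 * X - 1 : ℤ[X]) = _
        simp [two_mul, two_smul]
      rw [h2]
      exact hR v
    have h6 : R ^ 6 = 1 := by
      apply hρ
      have h3 : aeval (ρ R) (f * g) = 0 := by rw [map_mul, h1, zero_mul]
      rw [hfg, map_sub, map_pow, aeval_X, map_one, sub_eq_zero] at h3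
      rw [map_pow, h3, map_one]
    have h7 : ¬ (p : ℤ) ∣ 6 := by
      intro h
      have h8 : p ∣ 6 := by exact_mod_cast h
      have h9 := Nat.le_of_dvd (by norm_num) h8
      interval_cases p
      · exact absurd h8 (by decide)
      · exact absurd hp (by decide)
    have h4 := hlift R f g (-(2 * X ^ 2 + 4 * X + 3)) (2 * X ^ 2 - 4 * X + 3) 6 6 h7 (by
      show (-(2 * X ^ 2 + 4 * X + 3) : ℤ[X]) * (X ^ 3 - 2 * X ^ 2 + 2 * X - 1) +
        (2 * X ^ 2 - 4 * X + 3) * (X ^ 3 + 2 * X ^ 2 + 2 * X + 1) = _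
      rw [show (C 6 : ℤ[X]) = 6 from rfl]
      ring) ⟨1, by rw [hfg, mul_one]⟩ h6 h1
    intro v
    have h5 : aeval (ρ' R) f = (ρ' R) ^ 3 - (2 : ℂ) • (ρ' R) ^ 2 + (2 : ℂ) • ρ' R - 1 := by
      show aeval (ρ' R) (X ^ 3 - 2 * X ^ 2 + 2 * X - 1 : ℤ[X]) = _
      simp [two_mul, two_smul]
    rw [h5] at h4
    exact LinearMap.congr_fun h4 v
  exact cube_comm ρ' hρ' (key S hS) (key T hT)

end Cfsg.Agent.H170.RV
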