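import Cfsg.Agent.H170.RV.Lift

/-!
# The 60 degree theorem for modules over any field of characteristic `p ≥ 5` (helper170)
-/

set_option autoImplicit false
set_option linter.unusedSectionVars false

namespace Cfsg.Agent.H170.RV

open Module

/-- The cubes commute: `V` a finite-dimensional module over a field of characteristic `p ≥ 5`, `X` a `p'`-group. -/
theorem t60_mod {k : Type*} [Field k] (p : ℕ) [Fact p.Prime] [CharP k p] (h5 : 5 ≤ p) {X : Type*} [Group X] [Finite X]
    (hX : ¬ p ∣ Nat.card X) {V : Type*} [AddCommGroup V] [Module k V] [FiniteDimensional k V] (ρ : X →* Module.End k V)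
    (t t' : X) (ht : (ρ t - 1) * (ρ t * ρ t - ρ t + 1) = 0) (ht' : (ρ t' - 1) * (ρ t' * ρ t' - ρ t' + 1) = 0) :
    ρ (t ^ 3) * ρ t' = ρ t' * ρ (t ^ 3) := by
  classical
  have hpV : ∀ v : V, p • v = 0 := by
    intro v
    rw [← Nat.cast_smul_eq_nsmul k, CharP.cast_eq_zero, zero_smul]
  let _ : Module (ZMod p) V := AddCommGroup.zmodModule (n := p) hpV
  let b := Module.finBasis k V
  -- the finite submodule
  let E : Submodule (ZMod p) V := Submodule.span (ZMod p) (Set.range fun i : X × Fin (finrank k V) => ρ i.1 (b i.2))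
  have hfg : Module.Finite (ZMod p) E := Module.Finite.iff_fg.mpr (Submodule.fg_span (Set.finite_range _))
  have hE : Finite E := Module.finite_of_finite (ZMod p)
  have hinv : ∀ (x : X) (v : V), v ∈ E → ρ x v ∈ E := by
    intro x v hv
    let L : V →ₗ[ZMod p] V := AddMonoidHom.toZModLinearMap p (ρ x).toAddMonoidHom
    have h1 : E ≤ E.comap L := by
      refine Submodule.span_le.mpr ?_
      rintro _ ⟨i, rfl⟩
      refine Submodule.subset_span ⟨(x * i.1, i.2), ?_⟩
      show ρ (x * i.1) (b i.2) = ρ x (ρ i.1 (b i.2))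
      rw [map_mul]
      rfl
    exact h1 hv
  -- the group
  let D := (ρ.toHomUnits).range
  have hD : Finite D := Set.finite_range (ρ.toHomUnits)
  have hDc : ¬ p ∣ Nat.card D := fun h => hX (h.trans (Subgroup.card_range_dvd _))
  have hmemD : ∀ (d : D), ∃ x : X, ρ.toHomUnits x = d := fun d => d.2
  have hDinv : ∀ (d : D) (v : V), v ∈ E → (((d : (Module.End k V)ˣ) : Module.End k V) v) ∈ E := by
    rintro ⟨_, x, rfl⟩ v hv
    exact hinv x v hv
  let σ : Representation (ZMod p) D E :=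
    { toFun := fun d => (AddMonoidHom.toZModLinearMap p
        ((((d : (Module.End k V)ˣ) : Module.End k V) : V →ₗ[k] V).toAddMonoidHom)).restrict (hDinv d)
      map_one' := by
        apply LinearMap.ext
        intro v
        rfl
      map_mul' := fun d d' => by
        apply LinearMap.ext
        intro v
        rfl }
  have hσ : ∀ (d : D) (v : E), ((σ d v : E) : V) = ((d : (Module.End k V)ˣ) : Module.End k V) v := fun _ _ => rfl
  have hspan : ∀ A B : Module.End k V, (∀ v ∈ E, A v = B v) → A = B := by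
    intro A B hAB
    refine b.ext fun i => hAB _ ?_
    refine Submodule.subset_span ⟨(1, i), ?_⟩
    show ρ 1 (b i) = b i
    rw [map_one]
    rfl
  have hσi : Function.Injective σ := by
    intro a c hac
    apply Subtype.ext
    apply Units.ext
    refine hspan _ _ fun v hv => ?_
    exact congrArg Subtype.val (LinearMap.congr_fun hac ⟨v, hv⟩)
  let S : D := ⟨ρ.toHomUnits t, ⟨t, rfl⟩⟩
  let T : D := ⟨ρ.toHomUnits t', ⟨t', rfl⟩⟩
  have hpoly : ∀ x : X, (ρ x - 1) * (ρ x * ρ x - ρ x + 1) = 0 → ∀ v : E,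
      σ ⟨ρ.toHomUnits x, ⟨x, rfl⟩⟩ (σ ⟨ρ.toHomUnits x, ⟨x, rfl⟩⟩ (σ ⟨ρ.toHomUnits x, ⟨x, rfl⟩⟩ v)) -
        (2 : ZMod p) • σ ⟨ρ.toHomUnits x, ⟨x, rfl⟩⟩ (σ ⟨ρ.toHomUnits x, ⟨x, rfl⟩⟩ v) +
        (2 : ZMod p) • σ ⟨ρ.toHomUnits x, ⟨x, rfl⟩⟩ v - v = 0 := by
    intro x hx v
    apply Subtype.ext
    have h1 := LinearMap.congr_fun hx (v : V)
    have h2 : ((ρ x - 1) * (ρ x * ρ x - ρ x + 1)) (v : V) =
        ρ x (ρ x (ρ x (v : V))) - (ρ x (ρ x (v : V)) + ρ x (ρ x (v : V))) + (ρ x (v : V) + ρ x (v : V)) - (v : V) := by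
      show ρ x (ρ x (ρ x (v : V)) - ρ x (v : V) + (v : V)) - (ρ x (ρ x (v : V)) - ρ x (v : V) + (v : V)) = _
      rw [map_add, map_sub]
      abel
    rw [h2] at h1
    rw [two_smul, two_smul]
    exact h1
  have h1 := cube_comm_p (Fact.out : p.Prime) h5 σ hσi hDc (S := S) (T := T) (hpoly t ht) (hpoly t' ht')
  have h2 : ρ.toHomUnits t ^ 3 * ρ.toHomUnits t' = ρ.toHomUnits t' * ρ.toHomUnits t ^ 3 := congrArg Subtype.val h1
  have h3 := congrArg (fun u : (Module.End k V)ˣ => (u : Module.End k V)) h2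
  rw [map_pow]
  exact h3

end Cfsg.Agent.H170.RV
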