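import Cfsg.Agent.H170.RV.Quat
import Cfsg.Agent.H170.RV.Lift
import Cfsg.Agent.H556.OmHall

/-!
# Frames of `SL₂(3)` in orthogonal groups (helper170)

`H` a `p'`-subgroup of `Omega`, `p ≥ 5`, containing the groups `⟨a_k, b_k, c_k, s_k⟩ ≅ SL₂(3)` of a maximal family of
orthogonal 4-frames: `H` permutes the involutions `z_k = a_k²` (`FS.exists_z`).
-/

set_option autoImplicit false
set_option linter.unusedSectionVars false

namespace Cfsg.Agent.H170.RV

open Module QuadraticMap Cfsg.Agent.H167.OP Cfsg.Agent.H170.HL Cfsg.Agent.H170.HL.OmRow Cfsg.Agent.H556.Om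

variable {F : Type*} [Field F] {ι : Type} [Fintype ι] [DecidableEq ι] {Q : QuadraticForm F (ι → F)}

/-- killed by `(X - 1)(X² - X + 1)` -/
def Six (Q : QuadraticForm F (ι → F)) (t : Cfsg.Omega F (⇑Q)) : Prop :=
  ∀ v, rep (inc (⇑Q)) t (rep (inc (⇑Q)) t (rep (inc (⇑Q)) t v)) - (2 : F) • rep (inc (⇑Q)) t (rep (inc (⇑Q)) t v) +
    (2 : F) • rep (inc (⇑Q)) t v - v = 0

theorem Six.conj {t : Cfsg.Omega F (⇑Q)} (h : Six Q t) (g : Cfsg.Omega F (⇑Q)) : Six Q (g * t * g⁻¹) := by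
  intro v
  have h1 : ∀ w, rep (inc (⇑Q)) (g * t * g⁻¹) w = rep (inc (⇑Q)) g (rep (inc (⇑Q)) t (rep (inc (⇑Q)) g⁻¹ w)) := by
    intro w
    rw [mul_ap, mul_ap]
  rw [h1, h1, h1, inv_ap, inv_ap]
  have h2 := congrArg (rep (inc (⇑Q)) g) (h (rep (inc (⇑Q)) g⁻¹ v))
  rw [map_sub, map_add, map_sub, map_smul, map_smul, map_zero, ap_inv] at h2
  exact h2

/-- the cubes commute inside a `p'`-group -/
theorem six_comm [Finite F] {p : ℕ} [CharP F p] (hp : p.Prime) (hp5 : 5 ≤ p) {H : Subgroup (Cfsg.Omega F (⇑Q))}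
    (hc : ¬ p ∣ Nat.card H) {x y : Cfsg.Omega F (⇑Q)} (hx : x ∈ H) (hy : y ∈ H) (h6x : Six Q x) (h6y : Six Q y) :
    x ^ 3 * y = y * x ^ 3 := by
  have hfin : Finite (Cfsg.Omega F (⇑Q)) := inferInstance
  let σ : Representation F H (ι → F) := (rep (inc (⇑Q))).comp H.subtype
  have hσ : Function.Injective σ := fun a b hab => Subtype.ext (rep_inj hab)
  have h1 := cube_comm_p hp hp5 σ hσ hc (S := ⟨x, hx⟩) (T := ⟨y, hy⟩) h6x h6y
  exact congrArg Subtype.val h1

/-- elements with orthogonal supports commute -/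
theorem comm_of_orth {J K : Type*} {e : J → ι → F} {e' : K → ι → F} {x y : Cfsg.Omega F (⇑Q)}
    (hx : ∀ v, (∀ j, polarBilin Q (e j) v = 0) → rep (inc (⇑Q)) x v = v)
    (hy : ∀ v, (∀ j, polarBilin Q (e' j) v = 0) → rep (inc (⇑Q)) y v = v)
    (ho : ∀ i j, polarBilin Q (e i) (e' j) = 0) : x * y = y * x := by
  apply rep_inj
  apply LinearMap.ext
  intro v
  rw [mul_ap, mul_ap]
  have h1 : rep (inc (⇑Q)) y (rep (inc (⇑Q)) x v - v) = rep (inc (⇑Q)) x v - v := by
    apply hy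
    intro j
    have h3 : rep (inc (⇑Q)) x (e' j) = e' j := hx _ fun i => ho i j
    rw [map_sub]
    have h4 := polar_omega x (e' j) v
    rw [h3] at h4
    rw [h4, sub_self]
  have h2 : rep (inc (⇑Q)) x (rep (inc (⇑Q)) y v - v) = rep (inc (⇑Q)) y v - v := by
    apply hx
    intro j
    have h3 : rep (inc (⇑Q)) y (e j) = e j := hy _ fun i => by rw [polar_symm, ho]
    rw [map_sub]
    have h4 := polar_omega y (e j) v
    rw [h3] at h4
    rw [h4, sub_self]
  rw [map_sub] at h1 h2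
  have h3 : rep (inc (⇑Q)) x (rep (inc (⇑Q)) y v) = rep (inc (⇑Q)) y v - v + rep (inc (⇑Q)) x v := by
    rw [← h2]; abel
  have h4 : rep (inc (⇑Q)) y (rep (inc (⇑Q)) x v) = rep (inc (⇑Q)) x v - v + rep (inc (⇑Q)) y v := by
    rw [← h1]; abel
  rw [h3, h4]
  abel

/-- orthogonal families of nonisotropic vectors are independent -/
theorem orth_li {J : Type*} [Fintype J] [DecidableEq J] {x : J → ι → F} (h0 : ∀ j, polarBilin Q (x j) (x j) ≠ 0)
    (ho : ∀ i j, i ≠ j → polarBilin Q (x i) (x j) = 0) : LinearIndependent F x := by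
  rw [Fintype.linearIndependent_iff]
  intro c hc j
  have h1 := congrArg (polarBilin Q (x j)) hc
  rw [map_sum, map_zero, Finset.sum_eq_single j] at h1
  · rw [map_smul, smul_eq_mul] at h1
    exact (mul_eq_zero.mp h1).resolve_right (h0 j)
  · intro i _ hi
    rw [map_smul, ho j i hi.symm, smul_zero]
  · intro h
    exact absurd (Finset.mem_univ j) h

theorem orth_card_le {J : Type*} [Fintype J] [DecidableEq J] {x : J → ι → F} (h0 : ∀ j, polarBilin Q (x j) (x j) ≠ 0)
    (ho : ∀ i j, i ≠ j → polarBilin Q (x i) (x j) = 0) {U : Submodule F (ι → F)} (hU : ∀ j, x j ∈ U) :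
    Fintype.card J ≤ finrank F U := by
  have h1 : LinearIndependent F (fun j => (⟨x j, hU j⟩ : U)) := by
    apply LinearIndependent.of_comp U.subtype
    exact orth_li h0 ho
  exact h1.fintype_card_le_finrank

/-- four orthogonal vectors in the intersection of two supports -/
theorem core (h2 : (2 : F) ≠ 0) {zl z' a' b' : Cfsg.Omega F (⇑Q)} (haa : a' * a' = z') (hbb : b' * b' = z')
    (hcc : (a' * b') * (a' * b') = z') (ca : zl * a' = a' * zl) (cb : zl * b' = b' * zl) (hzl2 : zl * zl = 1)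
    (hz'2 : z' * z' = 1) {w u : ι → F} (hw : rep (inc (⇑Q)) zl w = -w) (hu : rep (inc (⇑Q)) z' u = -u)
    (hwu : polarBilin Q w u ≠ 0) : ∃ X : Fin 4 → ι → F, (∀ j, polarBilin Q (X j) (X j) ≠ 0) ∧
      (∀ i j, i ≠ j → polarBilin Q (X i) (X j) = 0) ∧ (∀ j, rep (inc (⇑Q)) z' (X j) = -X j) ∧
      ∀ j, rep (inc (⇑Q)) zl (X j) = -X j := by
  have cz : zl * z' = z' * zl := by
    rw [← haa, ← mul_assoc, ca, mul_assoc, ca, mul_assoc]
  have isoz' : ∀ x y, polarBilin Q (rep (inc (⇑Q)) z' x) y = polarBilin Q x (rep (inc (⇑Q)) z' y) := by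
    intro x y
    rw [← polar_omega z' (rep (inc (⇑Q)) z' x) y, ← mul_ap, hz'2, one_ap]
  have isozl : ∀ x y, polarBilin Q (rep (inc (⇑Q)) zl x) y = polarBilin Q x (rep (inc (⇑Q)) zl y) := by
    intro x y
    rw [← polar_omega zl (rep (inc (⇑Q)) zl x) y, ← mul_ap, hzl2, one_ap]
  have hx : ∃ x, rep (inc (⇑Q)) z' x = -x ∧ rep (inc (⇑Q)) zl x = -x ∧ polarBilin Q x x ≠ 0 := by
    obtain ⟨w1, hw1⟩ : ∃ w1, w1 = w - rep (inc (⇑Q)) z' w := ⟨_, rfl⟩
    obtain ⟨u1, hu1⟩ : ∃ u1, u1 = u - rep (inc (⇑Q)) zl u := ⟨_, rfl⟩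
    have e1 : rep (inc (⇑Q)) z' w1 = -w1 := by
      rw [hw1, map_sub, ← mul_ap, hz'2, one_ap]; abel
    have e2 : rep (inc (⇑Q)) zl w1 = -w1 := by
      rw [hw1, map_sub, ← mul_ap, cz, mul_ap, hw, map_neg]; abel
    have e3 : rep (inc (⇑Q)) zl u1 = -u1 := by
      rw [hu1, map_sub, ← mul_ap, hzl2, one_ap]; abel
    have e4 : rep (inc (⇑Q)) z' u1 = -u1 := by
      rw [hu1, map_sub, ← mul_ap, ← cz, mul_ap, hu, map_neg]; abel
    have e5 : polarBilin Q w1 u1 = 4 * polarBilin Q w u := by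
      have e6 : polarBilin Q w u1 = 2 * polarBilin Q w u := by
        rw [hu1, map_sub, ← isozl, hw, map_neg, LinearMap.neg_apply]
        ring
      have e7 : polarBilin Q w1 u1 = polarBilin Q w u1 - polarBilin Q (rep (inc (⇑Q)) z' w) u1 := by
        rw [hw1, map_sub, LinearMap.sub_apply]
      rw [e7, isoz', e4, map_neg, e6]
      ring
    have h4 : (4 : F) ≠ 0 := by
      have : (4 : F) = 2 * 2 := by norm_num
      rw [this]
      exact mul_ne_zero h2 h2
    have e6 : polarBilin Q w1 u1 ≠ 0 := by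
      rw [e5]
      exact mul_ne_zero h4 hwu
    by_cases c1 : polarBilin Q w1 w1 = 0
    · by_cases c2 : polarBilin Q u1 u1 = 0
      · refine ⟨w1 + u1, by rw [map_add, e1, e4]; abel, by rw [map_add, e2, e3]; abel, ?_⟩
        rw [map_add, map_add, LinearMap.add_apply, LinearMap.add_apply, c1, c2, polar_symm u1 w1]
        have : 0 + polarBilin Q w1 u1 + (polarBilin Q w1 u1 + 0) = 2 * polarBilin Q w1 u1 := by ring
        rw [this]
        exact mul_ne_zero h2 e6
      · exact ⟨u1, e4, e3, c2⟩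
    · exact ⟨w1, e1, e2, c1⟩
  obtain ⟨x, hx1, hx2, hx0⟩ := hx
  -- skew elements
  have skew : ∀ (y : Cfsg.Omega F (⇑Q)) (v : ι → F), rep (inc (⇑Q)) z' v = -v → y * y = z' →
      polarBilin Q v (rep (inc (⇑Q)) y v) = 0 := by
    intro y v hv hy
    have e1 := polar_omega y v (rep (inc (⇑Q)) y v)
    rw [← mul_ap, hy, hv, map_neg, polar_symm (rep (inc (⇑Q)) y v) v] at e1
    have e3 : (2 : F) * polarBilin Q v (rep (inc (⇑Q)) y v) = 0 := by linear_combination -e1
    exact (mul_eq_zero.mp e3).resolve_left h2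
  have s1 := skew a' x hx1 haa
  have s2 := skew b' x hx1 hbb
  have s3 := skew (a' * b') x hx1 hcc
  have n1 : ∀ y : Cfsg.Omega F (⇑Q), polarBilin Q (rep (inc (⇑Q)) y x) (rep (inc (⇑Q)) y x) = polarBilin Q x x :=
    fun y => polar_omega y x x
  have cza : z' * a' = a' * z' := by rw [← haa]; group
  have czb : z' * b' = b' * z' := by rw [← hbb]; group
  have s4 : polarBilin Q (rep (inc (⇑Q)) a' x) (rep (inc (⇑Q)) b' x) = 0 := by
    have e1 := polar_omega a' (rep (inc (⇑Q)) a' x) (rep (inc (⇑Q)) b' x)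
    rw [← mul_ap, ← mul_ap, haa] at e1
    rw [← e1, hx1, map_neg, LinearMap.neg_apply, s3, neg_zero]
  have s5 : polarBilin Q (rep (inc (⇑Q)) a' x) (rep (inc (⇑Q)) (a' * b') x) = 0 := by
    rw [mul_ap]
    exact (polar_omega a' x (rep (inc (⇑Q)) b' x)).trans s2
  have s6 : polarBilin Q (rep (inc (⇑Q)) b' x) (rep (inc (⇑Q)) (a' * b') x) = 0 := by
    rw [mul_ap]
    exact skew a' _ (by rw [← mul_ap, czb, mul_ap, hx1, map_neg]) haa
  have m1 : ∀ y, z' * y = y * z' → rep (inc (⇑Q)) z' (rep (inc (⇑Q)) y x) = -rep (inc (⇑Q)) y x := by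
    intro y hy
    rw [← mul_ap, hy, mul_ap, hx1, map_neg]
  have m2 : ∀ y, zl * y = y * zl → rep (inc (⇑Q)) zl (rep (inc (⇑Q)) y x) = -rep (inc (⇑Q)) y x := by
    intro y hy
    rw [← mul_ap, hy, mul_ap, hx2, map_neg]
  have m1c := m1 (a' * b') (by rw [← mul_assoc, cza, mul_assoc, czb, mul_assoc])
  have m2c := m2 (a' * b') (by rw [← mul_assoc, ca, mul_assoc, cb, mul_assoc])
  refine ⟨![x, rep (inc (⇑Q)) a' x, rep (inc (⇑Q)) b' x, rep (inc (⇑Q)) (a' * b') x], ?_, ?_, ?_, ?_⟩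
  · intro j
    fin_cases j
    · exact hx0
    · exact fun h => hx0 ((n1 a').symm.trans h)
    · exact fun h => hx0 ((n1 b').symm.trans h)
    · exact fun h => hx0 ((n1 (a' * b')).symm.trans h)
  · intro i j hij
    fin_cases i <;> fin_cases j
    · exact absurd rfl hij
    · exact s1
    · exact s2
    · exact s3
    · exact (polar_symm _ _).trans s1
    · exact absurd rfl hij
    · exact s4
    · exact s5
    · exact (polar_symm _ _).trans s2
    · exact (polar_symm _ _).trans s4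
    · exact absurd rfl hij
    · exact s6
    · exact (polar_symm _ _).trans s3
    · exact (polar_symm _ _).trans s5
    · exact (polar_symm _ _).trans s6
    · exact absurd rfl hij
  · intro j
    fin_cases j
    · exact hx1
    · exact m1 a' cza
    · exact m1 b' czb
    · exact m1c
  · intro j
    fin_cases j
    · exact hx2
    · exact m2 a' ca
    · exact m2 b' cb
    · exact m2c

/-- the setup -/
structure FS {m : ℕ} (Q : QuadraticForm F (ι → F)) (p : ℕ) (H : Subgroup (Cfsg.Omega F (⇑Q)))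
    (E : Fin m × A4 → ι → F) (a b c s : Fin m → Cfsg.Omega F (⇑Q)) : Prop where
  gq : GoodQ Q
  two : (2 : F) ≠ 0
  prime : p.Prime
  five : 5 ≤ p
  card : ¬ p ∣ Nat.card H
  frame : Frame (polarBilin Q) E
  qd : ∀ k, QD Q (Ek E k) (a k) (b k) (c k) (s k)
  sub : ∀ k, a k ∈ H ∧ b k ∈ H ∧ c k ∈ H ∧ s k ∈ H
  max : ∀ E' : Fin (m + 1) × A4 → ι → F, ¬ Frame (polarBilin Q) E'
  dim : Fintype.card ι ≤ 4 * m + 4

namespace FS

variable {m : ℕ} {p : ℕ} {H : Subgroup (Cfsg.Omega F (⇑Q))} {E : Fin m × A4 → ι → F}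
  {a b c s : Fin m → Cfsg.Omega F (⇑Q)}

theorem six (h : FS Q p H E a b c s) (k : Fin m) : Six Q (a k * a k * s k) :=
  (h.qd k).poly h.two (Ek_frame h.frame k)

theorem mem_t (h : FS Q p H E a b c s) (k : Fin m) : a k * a k * s k ∈ H :=
  H.mul_mem (H.mul_mem (h.sub k).1 (h.sub k).1) (h.sub k).2.2.2

theorem comm_t [Finite F] [CharP F p] (h : FS Q p H E a b c s) {g : Cfsg.Omega F (⇑Q)} (hg : g ∈ H) (k j : Fin m) :
    (a j * a j) * (g * (a k * a k * s k) * g⁻¹) = (g * (a k * a k * s k) * g⁻¹) * (a j * a j) := by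
  have h1 := six_comm h.prime h.five h.card (h.mem_t j) (H.mul_mem (H.mul_mem hg (h.mem_t k)) (H.inv_mem hg))
    (h.six j) ((h.six k).conj g)
  rwa [(h.qd j).t3 h.two (Ek_frame h.frame j)] at h1

/-- the quaternion groups commute with the `z_j` -/
theorem comm_abc [Finite F] [CharP F p] (h : FS Q p H E a b c s) {g : Cfsg.Omega F (⇑Q)} (hg : g ∈ H) (k j : Fin m) :
    (a j * a j) * (g * a k * g⁻¹) = (g * a k * g⁻¹) * (a j * a j) ∧
    (a j * a j) * (g * b k * g⁻¹) = (g * b k * g⁻¹) * (a j * a j) := by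
  have hF := Ek_frame h.frame k
  have hq := h.qd k
  have hab := hq.ab h.two hF
  have hcc := hq.cc h.two hF
  have hsa := hq.sa h.two hF
  have hsb := hq.sb h.two hF
  have hsc := hq.sc h.two hF
  set z := a j * a j with hz
  -- `s` commutes with `a²`
  have hzs : s k * (a k * a k) = a k * a k * s k := by
    rw [← mul_assoc, hsa, mul_assoc, hsa, ← mul_assoc, hcc]
  -- `c = t⁻¹ (a⁻¹ t a)`
  have hc : (a k * a k * s k)⁻¹ * ((a k)⁻¹ * (a k * a k * s k) * (a k)) = c k := by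
    have h1 : (a k)⁻¹ * (a k * a k * s k) * (a k) = a k * (s k * a k) := by group
    have h2 : (a k * a k * s k)⁻¹ * (a k * (s k * a k)) = (s k)⁻¹ * ((a k)⁻¹ * (s k * a k)) := by group
    rw [h1, h2, hsa]
    have h3 : (a k)⁻¹ * (c k * s k) = b k * s k := by rw [← hab]; group
    rw [h3, ← hsc]
    group
  have hb : (a k * a k * s k) * c k * (a k * a k * s k)⁻¹ = b k := by
    have h1 : (a k * a k * s k) * c k = (a k * a k) * (b k * s k) := by rw [mul_assoc, hsc]
    have h2 : a k * a k * b k = b k * (a k * a k) := by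
      rw [← hq.bb h.two hF]; group
    rw [h1, ← mul_assoc, h2]
    group
  have ha : (a k * a k * s k) * b k * (a k * a k * s k)⁻¹ = a k := by
    have h1 : (a k * a k * s k) * b k = (a k * a k) * (a k * s k) := by rw [mul_assoc, hsb]
    rw [h1]
    group
  have t1 := h.comm_t hg k j
  have t2 := h.comm_t (H.mul_mem hg (H.inv_mem (h.sub k).1)) k j
  rw [← hz] at t1 t2
  -- work in the centralizer of `z`
  have key : ∀ x : Cfsg.Omega F (⇑Q), x ∈ Subgroup.centralizer ({z} : Set (Cfsg.Omega F (⇑Q))) ↔ z * x = x * z := by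
    intro x
    rw [Subgroup.mem_centralizer_singleton_iff]
    exact eq_comm
  have t1' := (key _).mpr t1
  have t2' := (key _).mpr t2
  have e2 : g * (a k)⁻¹ * (a k * a k * s k) * (g * (a k)⁻¹)⁻¹ = g * ((a k)⁻¹ * (a k * a k * s k) * (a k)) * g⁻¹ := by
    group
  rw [e2] at t2'
  have hc' : g * c k * g⁻¹ ∈ Subgroup.centralizer ({z} : Set (Cfsg.Omega F (⇑Q))) := by
    have h1 := mul_mem (inv_mem t1') t2'
    have h2 : (g * (a k * a k * s k) * g⁻¹)⁻¹ * (g * ((a k)⁻¹ * (a k * a k * s k) * (a k)) * g⁻¹) =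
        g * ((a k * a k * s k)⁻¹ * ((a k)⁻¹ * (a k * a k * s k) * (a k))) * g⁻¹ := by group
    rwa [h2, hc] at h1
  have hb' : g * b k * g⁻¹ ∈ Subgroup.centralizer ({z} : Set (Cfsg.Omega F (⇑Q))) := by
    have h1 := mul_mem (mul_mem t1' hc') (inv_mem t1')
    have h2 : (g * (a k * a k * s k) * g⁻¹) * (g * c k * g⁻¹) * (g * (a k * a k * s k) * g⁻¹)⁻¹ =
        g * ((a k * a k * s k) * c k * (a k * a k * s k)⁻¹) * g⁻¹ := by group
    rwa [h2, hb] at h1
  have ha' : g * a k * g⁻¹ ∈ Subgroup.centralizer ({z} : Set (Cfsg.Omega F (⇑Q))) := by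
    have h1 := mul_mem (mul_mem t1' hb') (inv_mem t1')
    have h2 : (g * (a k * a k * s k) * g⁻¹) * (g * b k * g⁻¹) * (g * (a k * a k * s k) * g⁻¹)⁻¹ =
        g * ((a k * a k * s k) * b k * (a k * a k * s k)⁻¹) * g⁻¹ := by group
    rwa [h2, ha] at h1
  exact ⟨(key _).mp ha', (key _).mp hb'⟩

theorem mem_Us_of_neg (h : FS Q p H E a b c s) {k : Fin m} {v : ι → F}
    (hv : rep (inc (⇑Q)) (a k * a k) v = -v) : v ∈ Us E k := by
  obtain ⟨d, w, hw, rfl⟩ := exists_decomp (Ek_frame h.frame k) h.two v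
  have h1 : rep (inc (⇑Q)) (a k * a k) (∑ j, d j • Ek E k j) = -∑ j, d j • Ek E k j := by
    rw [map_sum, ← Finset.sum_neg_distrib]
    refine Finset.sum_congr rfl fun j _ => ?_
    rw [map_smul, (h.qd k).z_e h.two (Ek_frame h.frame k), smul_neg]
  rw [map_add, h1, (h.qd k).fix_z hw] at hv
  have h2 : (2 : F) • w = 0 := by
    rw [two_smul]
    have h3 : (-∑ j, d j • Ek E k j + w) - (-(∑ j, d j • Ek E k j + w)) = 0 := by rw [hv, sub_self]
    rw [← h3]
    abel
  have h3 : w = 0 := (smul_eq_zero.mp h2).resolve_left h.two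
  rw [h3, add_zero]
  exact Submodule.sum_mem _ fun j _ => Submodule.smul_mem _ _ (Submodule.subset_span ⟨j, rfl⟩)

theorem neg_of_mem_Us (h : FS Q p H E a b c s) {k : Fin m} {v : ι → F} (hv : v ∈ Us E k) :
    rep (inc (⇑Q)) (a k * a k) v = -v := by
  induction hv using Submodule.span_induction with
  | mem v hv =>
    obtain ⟨j, rfl⟩ := hv
    exact (h.qd k).z_e h.two (Ek_frame h.frame k) j
  | zero => rw [map_zero, neg_zero]
  | add u v _ _ h1 h2 => rw [map_add, h1, h2, neg_add]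
  | smul d v _ h1 => rw [map_smul, h1, smul_neg]

theorem fix_of_orth (h : FS Q p H E a b c s) {k : Fin m} {v : ι → F} (hv : ∀ u ∈ Us E k, polarBilin Q u v = 0) :
    rep (inc (⇑Q)) (a k * a k) v = v :=
  (h.qd k).fix_z fun j => hv _ (Submodule.subset_span ⟨j, rfl⟩)

/-- the two supports coincide as soon as they are not orthogonal -/
theorem eq_of_ne [Finite F] [CharP F p] (h : FS Q p H E a b c s) {g : Cfsg.Omega F (⇑Q)} (hg : g ∈ H) {k l : Fin m}
    {w u : ι → F} (hw : rep (inc (⇑Q)) (a l * a l) w = -w)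
    (hu : rep (inc (⇑Q)) (g * (a k * a k) * g⁻¹) u = -u) (hwu : polarBilin Q w u ≠ 0) :
    g * (a k * a k) * g⁻¹ = a l * a l := by
  obtain ⟨ca, cb⟩ := h.comm_abc hg k l
  have haa : (g * a k * g⁻¹) * (g * a k * g⁻¹) = g * (a k * a k) * g⁻¹ := by group
  have hbb : (g * b k * g⁻¹) * (g * b k * g⁻¹) = g * (a k * a k) * g⁻¹ := by
    rw [← (h.qd k).bb h.two (Ek_frame h.frame k)]; group
  have hcc : ((g * a k * g⁻¹) * (g * b k * g⁻¹)) * ((g * a k * g⁻¹) * (g * b k * g⁻¹)) = g * (a k * a k) * g⁻¹ := by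
    rw [← (h.qd k).cc h.two (Ek_frame h.frame k), ← (h.qd k).ab h.two (Ek_frame h.frame k)]; group
  have hz'2 : (g * (a k * a k) * g⁻¹) * (g * (a k * a k) * g⁻¹) = 1 := by
    have := (h.qd k).za h.two (Ek_frame h.frame k)
    have h1 : (g * (a k * a k) * g⁻¹) * (g * (a k * a k) * g⁻¹) = g * ((a k * a k) * (a k * a k)) * g⁻¹ := by group
    rw [h1, this]; group
  have hzl2 : (a l * a l) * (a l * a l) = 1 := (h.qd l).za h.two (Ek_frame h.frame l)
  obtain ⟨X, hX0, hXo, hX1, hX2⟩ := core h.two haa hbb hcc ca cb hzl2 hz'2 hw hu hwu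
  have hli := orth_li hX0 hXo
  have hspan : finrank F (Submodule.span F (Set.range X)) = 4 := finrank_span_eq_card hli
  -- the span is `Us E l`
  have hl : Submodule.span F (Set.range X) = Us E l := by
    apply Submodule.eq_of_le_of_finrank_le
    · rw [Submodule.span_le]
      rintro _ ⟨j, rfl⟩
      exact h.mem_Us_of_neg (hX2 j)
    · rw [hspan, finrank_Us h.two h.frame]
  have hk : Submodule.span F (Set.range X) = (Us E k).map (rep (inc (⇑Q)) g) := by
    apply Submodule.eq_of_le_of_finrank_le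
    · rw [Submodule.span_le]
      rintro _ ⟨j, rfl⟩
      refine ⟨rep (inc (⇑Q)) g⁻¹ (X j), h.mem_Us_of_neg ?_, ap_inv _ _ _⟩
      have e1 := hX1 j
      rw [mul_ap, mul_ap] at e1
      have e2 := congrArg (rep (inc (⇑Q)) g⁻¹) e1
      rwa [inv_ap, map_neg] at e2
    · rw [hspan]
      exact (Submodule.finrank_map_le _ _).trans (finrank_Us h.two h.frame k).le
  -- equality
  apply rep_inj
  apply LinearMap.ext
  intro v
  obtain ⟨v1, hv1⟩ : ∃ v1, v1 = ∑ j, ((polarBilin Q (X j) (X j))⁻¹ * polarBilin Q (X j) v) • X j := ⟨_, rfl⟩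
  have hv1m : v1 ∈ Submodule.span F (Set.range X) := by
    rw [hv1]
    exact Submodule.sum_mem _ fun j _ => Submodule.smul_mem _ _ (Submodule.subset_span ⟨j, rfl⟩)
  have hv0 : ∀ y ∈ Submodule.span F (Set.range X), polarBilin Q y (v - v1) = 0 := by
    intro y hy
    induction hy using Submodule.span_induction with
    | mem y hy =>
      obtain ⟨j, rfl⟩ := hy
      rw [map_sub, hv1, map_sum, Finset.sum_eq_single j]
      · rw [map_smul, smul_eq_mul, mul_comm, ← mul_assoc, mul_inv_cancel₀ (hX0 j), one_mul, sub_self]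
      · intro i _ hi
        rw [map_smul, hXo j i hi.symm, smul_zero]
      · intro h
        exact absurd (Finset.mem_univ j) h
    | zero => rw [map_zero, LinearMap.zero_apply]
    | add x y _ _ h1 h2 => rw [map_add, LinearMap.add_apply, h1, h2, add_zero]
    | smul d y _ h1 => rw [map_smul, LinearMap.smul_apply, h1, smul_zero]
  have f1 : rep (inc (⇑Q)) (a l * a l) (v - v1) = v - v1 := h.fix_of_orth fun y hy => hv0 y (by rw [hl]; exact hy)
  have f2 : rep (inc (⇑Q)) (g * (a k * a k) * g⁻¹) (v - v1) = v - v1 := by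
    have e1 : rep (inc (⇑Q)) (a k * a k) (rep (inc (⇑Q)) g⁻¹ (v - v1)) = rep (inc (⇑Q)) g⁻¹ (v - v1) := by
      apply h.fix_of_orth
      intro y hy
      rw [← polar_omega g y, ap_inv]
      exact hv0 _ (by rw [hk]; exact ⟨y, hy, rfl⟩)
    rw [mul_ap, mul_ap, e1, ap_inv]
  have g1 : rep (inc (⇑Q)) (a l * a l) v1 = -v1 := h.neg_of_mem_Us (by rw [← hl]; exact hv1m)
  have g2 : rep (inc (⇑Q)) (g * (a k * a k) * g⁻¹) v1 = -v1 := by
    rw [hv1, map_sum, ← Finset.sum_neg_distrib]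
    refine Finset.sum_congr rfl fun j _ => ?_
    rw [map_smul, hX1, smul_neg]
  have e1 : v = v1 + (v - v1) := by abel
  rw [e1, map_add, map_add, f1, f2, g1, g2]

/-- **`H` permutes the involutions `z_k`** -/
theorem exists_z [Finite F] [CharP F p] (h : FS Q p H E a b c s) {g : Cfsg.Omega F (⇑Q)} (hg : g ∈ H) (k : Fin m) :
    ∃ l, g * (a k * a k) * g⁻¹ = a l * a l := by
  by_contra hcon
  push Not at hcon
  obtain ⟨E', hE'⟩ := exists_cons h.frame ((Ek_frame h.frame k).map (polar_omega g)) (fun j i => by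
    obtain ⟨l, α⟩ := j
    by_contra hne
    refine hcon l (h.eq_of_ne hg ((h.qd l).z_e h.two (Ek_frame h.frame l) α) ?_ hne)
    rw [mul_ap, mul_ap, inv_ap, (h.qd k).z_e h.two (Ek_frame h.frame k), map_neg])
  exact h.max E' hE'

end FS

end Cfsg.Agent.H170.RV
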