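import Cfsg.Agent.H170.RV.OmFrame

/-!
# The contradiction from a 3-group on a 6-space (helper170)
-/

set_option autoImplicit false
set_option linter.unusedSectionVars false

namespace Cfsg.Agent.H170.RV

open Module QuadraticMap Cfsg.Agent.H167.OP Cfsg.Agent.H170.HL Cfsg.Agent.H170.HL.OmRow Cfsg.Agent.H556.Om

variable {F : Type*} [Field F] {ι : Type} [Fintype ι] [DecidableEq ι] {Q : QuadraticForm F (ι → F)}

/-- three orthogonal planes of type `A₂` -/
structure Pl (Q : QuadraticForm F (ι → F)) (A B : Fin 3 → ι → F) : Prop where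
  AA : ∀ i, polarBilin Q (A i) (A i) = 2
  BB : ∀ i, polarBilin Q (B i) (B i) = 2
  AB : ∀ i, polarBilin Q (A i) (B i) = -1
  AA' : ∀ i j, i ≠ j → polarBilin Q (A i) (A j) = 0
  AB' : ∀ i j, i ≠ j → polarBilin Q (A i) (B j) = 0
  BB' : ∀ i j, i ≠ j → polarBilin Q (B i) (B j) = 0

/-- rotation of order 3 of the plane `⟨A, B⟩` -/
def IsY (Q : QuadraticForm F (ι → F)) (A B : ι → F) (y : Cfsg.Omega F (⇑Q)) : Prop :=
  ∀ v, rep (inc (⇑Q)) y v = v - polarBilin Q A v • A - polarBilin Q B v • (A + B)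

/-- the element of order 3 permuting the planes -/
structure IsS (Q : QuadraticForm F (ι → F)) (A B : Fin 3 → ι → F) (σ : Cfsg.Omega F (⇑Q)) : Prop where
  hA : ∀ i, rep (inc (⇑Q)) σ (A i) = A (i + 1)
  hB : ∀ i, rep (inc (⇑Q)) σ (B i) = B (i + 1)
  fix : ∀ v, (∀ i, polarBilin Q (A i) v = 0) → (∀ i, polarBilin Q (B i) v = 0) → rep (inc (⇑Q)) σ v = v

theorem Pl.map {A B : Fin 3 → ι → F} (h : Pl Q A B) (g : Cfsg.Omega F (⇑Q)) :
    Pl Q (fun i => rep (inc (⇑Q)) g (A i)) (fun i => rep (inc (⇑Q)) g (B i)) where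
  AA i := by rw [polar_omega, h.AA]
  BB i := by rw [polar_omega, h.BB]
  AB i := by rw [polar_omega, h.AB]
  AA' i j hij := by rw [polar_omega, h.AA' i j hij]
  AB' i j hij := by rw [polar_omega, h.AB' i j hij]
  BB' i j hij := by rw [polar_omega, h.BB' i j hij]

theorem polar_move (g : Cfsg.Omega F (⇑Q)) (u v : ι → F) :
    polarBilin Q u (rep (inc (⇑Q)) g⁻¹ v) = polarBilin Q (rep (inc (⇑Q)) g u) v := by
  rw [← polar_omega g u, ap_inv]

theorem IsY.map {A B : ι → F} {y : Cfsg.Omega F (⇑Q)} (h : IsY Q A B y) (g : Cfsg.Omega F (⇑Q)) :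
    IsY Q (rep (inc (⇑Q)) g A) (rep (inc (⇑Q)) g B) (g * y * g⁻¹) := by
  intro v
  rw [mul_ap, mul_ap, h, map_sub, map_sub, map_smul, map_smul, map_add, ap_inv, polar_move, polar_move]

theorem IsS.map {A B : Fin 3 → ι → F} {σ : Cfsg.Omega F (⇑Q)} (h : IsS Q A B σ) (g : Cfsg.Omega F (⇑Q)) :
    IsS Q (fun i => rep (inc (⇑Q)) g (A i)) (fun i => rep (inc (⇑Q)) g (B i)) (g * σ * g⁻¹) where
  hA i := by rw [mul_ap, mul_ap, inv_ap, h.hA]
  hB i := by rw [mul_ap, mul_ap, inv_ap, h.hB]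
  fix v h1 h3 := by
    rw [mul_ap, mul_ap, h.fix (rep (inc (⇑Q)) g⁻¹ v) (fun i => by rw [polar_move]; exact h1 i)
      (fun i => by rw [polar_move]; exact h3 i), ap_inv]

namespace FS

variable {m : ℕ} {p : ℕ} {H : Subgroup (Cfsg.Omega F (⇑Q))} {E : Fin m × A4 → ι → F}
  {a b c s : Fin m → Cfsg.Omega F (⇑Q)}

/-- a vector in two different supports is zero -/
theorem eq_zero_of_two (h : FS Q p H E a b c s) {k l : Fin m} (hkl : k ≠ l) {v : ι → F}
    (hk : rep (inc (⇑Q)) (a k * a k) v = -v) (hl : rep (inc (⇑Q)) (a l * a l) v = -v) : v = 0 := by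
  have h1 := h.mem_Us_of_neg hk
  have h3 := h.mem_Us_of_neg hl
  have h4 : rep (inc (⇑Q)) (a k * a k) v = v := h.fix_of_orth fun u hu => Us_orth h.frame hkl hu h3
  rw [h4] at hk
  have h5 : (2 : F) • v = 0 := by
    rw [two_smul]
    nth_rewrite 1 [hk]
    exact neg_add_cancel v
  exact (smul_eq_zero.mp h5).resolve_left h.two

/-- a nonzero vector of the support orthogonal to two given vectors -/
theorem exists_vec2 (h : FS Q p H E a b c s) (k : Fin m) (A B : ι → F) :
    ∃ v, v ≠ 0 ∧ rep (inc (⇑Q)) (a k * a k) v = -v ∧ polarBilin Q A v = 0 ∧ polarBilin Q B v = 0 := by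
  let φ : Us E k →ₗ[F] F × F := ((polarBilin Q A).prod (polarBilin Q B)).comp (Us E k).subtype
  have h1 : LinearMap.ker φ ≠ ⊥ := by
    apply LinearMap.ker_ne_bot_of_finrank_lt
    rw [finrank_Us h.two h.frame, Module.finrank_prod, Module.finrank_self]
    norm_num
  obtain ⟨v, hv, hv0⟩ := Submodule.exists_mem_ne_zero_of_ne_bot h1
  have h3 : (polarBilin Q A (v : ι → F), polarBilin Q B (v : ι → F)) = (0, 0) := hv
  rw [Prod.mk.injEq] at h3
  exact ⟨v, fun h => hv0 (Subtype.ext h), h.neg_of_mem_Us v.2, h3.1, h3.2⟩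

theorem comm_y [Finite F] [CharP F p] (h : FS Q p H E a b c s) {A B : ι → F} {y : Cfsg.Omega F (⇑Q)} (hy : y ∈ H)
    (hY : IsY Q A B y) (k : Fin m) : y * (a k * a k) = (a k * a k) * y := by
  obtain ⟨l, hl⟩ := h.exists_z hy k
  have hlk : l = k := by
    by_contra hne
    obtain ⟨v, hv0, hv, hA, hB⟩ := h.exists_vec2 k A B
    apply hv0
    refine h.eq_zero_of_two hne ?_ hv
    have h1 : ∀ w, polarBilin Q A w = 0 → polarBilin Q B w = 0 → rep (inc (⇑Q)) y w = w := by
      intro w h1 h3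
      rw [hY, h1, h3, zero_smul, zero_smul, sub_zero, sub_zero]
    have h3 : rep (inc (⇑Q)) y v = v := h1 v hA hB
    have h4 : rep (inc (⇑Q)) y⁻¹ v = v := by
      have := inv_ap (rep (inc (⇑Q))) y v
      rwa [h3] at this
    rw [← hl, mul_ap, mul_ap, h4, hv, map_neg, h3]
  rw [hlk] at hl
  exact mul_inv_eq_iff_eq_mul.mp hl

/-- an involution commuting with the rotation is a scalar on the plane -/
theorem plane (h3 : (3 : F) ≠ 0) {A B : ι → F} {y z : Cfsg.Omega F (⇑Q)} (hY : IsY Q A B y)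
    (hAA : polarBilin Q A A = 2) (hBB : polarBilin Q B B = 2) (hAB : polarBilin Q A B = -1) (hz : z * z = 1)
    (hyz : y * z = z * y) (hA0 : A ≠ 0) : ∃ α : F, (α = 1 ∨ α = -1) ∧ rep (inc (⇑Q)) z A = α • A ∧
      rep (inc (⇑Q)) z B = α • B := by
  have iso : ∀ x y, polarBilin Q (rep (inc (⇑Q)) z x) y = polarBilin Q x (rep (inc (⇑Q)) z y) := by
    intro x y
    rw [← polar_omega z (rep (inc (⇑Q)) z x) y, ← mul_ap, hz, one_ap]
  have hyA : rep (inc (⇑Q)) y A = B := by
    rw [hY, hAA, polar_symm B A, hAB]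
    module
  have hyB : rep (inc (⇑Q)) y B = -A - B := by
    rw [hY, hAB, hBB]
    module
  obtain ⟨p1, hp1⟩ : ∃ p1, p1 = polarBilin Q A (rep (inc (⇑Q)) z A) := ⟨_, rfl⟩
  obtain ⟨p2, hp2⟩ : ∃ p2, p2 = polarBilin Q B (rep (inc (⇑Q)) z A) := ⟨_, rfl⟩
  obtain ⟨p3, hp3⟩ : ∃ p3, p3 = polarBilin Q A (rep (inc (⇑Q)) z B) := ⟨_, rfl⟩
  obtain ⟨p4, hp4⟩ : ∃ p4, p4 = polarBilin Q B (rep (inc (⇑Q)) z B) := ⟨_, rfl⟩
  have e1 : rep (inc (⇑Q)) z B = rep (inc (⇑Q)) z A - p1 • A - p2 • (A + B) := by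
    have h1 : rep (inc (⇑Q)) y (rep (inc (⇑Q)) z A) = rep (inc (⇑Q)) z B := by
      rw [← mul_ap, hyz, mul_ap, hyA]
    rw [← h1, hY, ← hp1, ← hp2]
  have e2 : rep (inc (⇑Q)) z B - p3 • A - p4 • (A + B) = - rep (inc (⇑Q)) z A - rep (inc (⇑Q)) z B := by
    have h1 : rep (inc (⇑Q)) y (rep (inc (⇑Q)) z B) = rep (inc (⇑Q)) z (-A - B) := by
      rw [← mul_ap, hyz, mul_ap, hyB]
    rw [map_sub, map_neg] at h1
    rw [← h1, hY, ← hp3, ← hp4]
  -- `z A = α A + β B`
  obtain ⟨α, β, hαβ⟩ : ∃ α β : F, rep (inc (⇑Q)) z A = α • A + β • B := by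
    refine ⟨(3 : F)⁻¹ * (2 * p1 + 2 * p2 + p3 + p4), (3 : F)⁻¹ * (2 * p2 + p4), ?_⟩
    have e3 : (3 : F) • rep (inc (⇑Q)) z A = (2 * p1 + 2 * p2 + p3 + p4) • A + (2 * p2 + p4) • B := by
      have e4 : rep (inc (⇑Q)) z A = -(2 : F) • rep (inc (⇑Q)) z B + p3 • A + p4 • (A + B) := by
        have : rep (inc (⇑Q)) z A = -(rep (inc (⇑Q)) z B - p3 • A - p4 • (A + B)) - rep (inc (⇑Q)) z B := by
          rw [e2]; abel
        rw [this]
        module
      have e5 : (3 : F) • rep (inc (⇑Q)) z A = rep (inc (⇑Q)) z A + (2 : F) • rep (inc (⇑Q)) z A := by module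
      rw [e5]
      nth_rewrite 1 [e4]
      rw [e1]
      module
    have e4 := congrArg (fun x => (3 : F)⁻¹ • x) e3
    simp only [smul_smul, inv_mul_cancel₀ h3, one_smul, smul_add] at e4
    exact e4
  have q1 : p1 = 2 * α - β := by
    rw [hp1, hαβ, map_add, map_smul, map_smul, hAA, hAB, smul_eq_mul, smul_eq_mul]; ring
  have q2 : p2 = -α + 2 * β := by
    rw [hp2, hαβ, map_add, map_smul, map_smul, hBB, polar_symm B A, hAB, smul_eq_mul, smul_eq_mul]; ring
  have e6 : rep (inc (⇑Q)) z B = (-β) • A + (α - β) • B := by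
    rw [e1, hαβ, q1, q2]
    module
  have e7 := iso A B
  rw [hαβ, e6, map_add, map_add, map_smul, map_smul, map_smul, map_smul, LinearMap.add_apply, LinearMap.smul_apply,
    LinearMap.smul_apply, hAA, hAB, hBB, smul_eq_mul, smul_eq_mul, smul_eq_mul, smul_eq_mul] at e7
  have hβ : β = 0 := by
    have : (3 : F) * β = 0 := by linear_combination e7
    exact (mul_eq_zero.mp this).resolve_left h3
  rw [hβ, zero_smul, add_zero] at hαβ
  rw [hβ, neg_zero, zero_smul, zero_add, sub_zero] at e6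
  refine ⟨α, ?_, hαβ, e6⟩
  have e8 : rep (inc (⇑Q)) z (rep (inc (⇑Q)) z A) = A := by rw [← mul_ap, hz, one_ap]
  rw [hαβ, map_smul, hαβ, smul_smul] at e8
  have e9 : (α * α - 1) • A = 0 := by rw [sub_smul, e8, one_smul, sub_self]
  have e10 := (smul_eq_zero.mp e9).resolve_right hA0
  exact mul_self_eq_one_iff.mp (sub_eq_zero.mp e10)

set_option maxHeartbeats 2000000 in
/-- **the contradiction** -/
theorem false [Finite F] [CharP F p] (h : FS Q p H E a b c s) {A B : Fin 3 → ι → F} {y σ : Cfsg.Omega F (⇑Q)}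
    (hP : Pl Q A B) (hy : y ∈ H) (hσ : σ ∈ H) (hY : IsY Q (A 0) (B 0) y) (hS : IsS Q A B σ) : False := by
  have h3 : (3 : F) ≠ 0 := by
    intro h0
    have h1 : ((3 : ℕ) : F) = 0 := by exact_mod_cast h0
    rw [CharP.cast_eq_zero_iff F p, Nat.prime_dvd_prime_iff_eq h.prime Nat.prime_three] at h1
    have := h.five
    omega
  have hA0 : A 0 ≠ 0 := by
    intro h0
    have h1 := hP.AA 0
    rw [h0, map_zero] at h1
    exact h.two h1.symm
  have hzz : ∀ k, (a k * a k) * (a k * a k) = 1 := fun k => (h.qd k).za h.two (Ek_frame h.frame k)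
  have hα : ∀ k, ∃ α : F, (α = 1 ∨ α = -1) ∧ rep (inc (⇑Q)) (a k * a k) (A 0) = α • A 0 ∧
      rep (inc (⇑Q)) (a k * a k) (B 0) = α • B 0 := fun k =>
    plane h3 hY (hP.AA 0) (hP.BB 0) (hP.AB 0) (hzz k) (h.comm_y hy hY k) hA0
  -- an orthogonal family of 5 vectors
  let X : Fin 5 → ι → F := ![A 0, A 1, A 2, (2 : F) • B 0 + A 0, (2 : F) • B 1 + A 1]
  have hc : ∀ i, polarBilin Q ((2 : F) • B i + A i) ((2 : F) • B i + A i) = 6 := by
    intro i
    rw [map_add, map_add, LinearMap.add_apply, LinearMap.add_apply, map_smul, map_smul, LinearMap.smul_apply,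
      LinearMap.smul_apply, map_smul, hP.BB, hP.AA, hP.AB, polar_symm (B i) (A i), hP.AB]
    simp only [smul_eq_mul]
    ring
  have h6 : (6 : F) ≠ 0 := by
    have : (6 : F) = 2 * 3 := by norm_num
    rw [this]
    exact mul_ne_zero h.two h3
  have hX0 : ∀ j, polarBilin Q (X j) (X j) ≠ 0 := by
    intro j
    fin_cases j
    · exact fun h0 => h.two ((hP.AA 0).symm.trans h0)
    · exact fun h0 => h.two ((hP.AA 1).symm.trans h0)
    · exact fun h0 => h.two ((hP.AA 2).symm.trans h0)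
    · exact fun h0 => h6 ((hc 0).symm.trans h0)
    · exact fun h0 => h6 ((hc 1).symm.trans h0)
  have hac : ∀ i j, polarBilin Q (A i) ((2 : F) • B j + A j) = 0 := by
    intro i j
    rw [map_add, map_smul]
    by_cases hij : i = j
    · rw [hij, hP.AB, hP.AA, smul_eq_mul]; ring
    · rw [hP.AB' i j hij, hP.AA' i j hij, smul_zero, add_zero]
  have hcc : polarBilin Q ((2 : F) • B 0 + A 0) ((2 : F) • B 1 + A 1) = 0 := by
    have e1 : ∀ w, polarBilin Q ((2 : F) • B 0 + A 0) w = 2 * polarBilin Q (B 0) w + polarBilin Q (A 0) w := by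
      intro w
      rw [polar_symm, map_add, map_smul, polar_symm w (B 0), polar_symm w (A 0), smul_eq_mul]
    rw [e1, hac 0 1, map_add, map_smul, hP.BB' 0 1 (by decide), polar_symm (B 0) (A 1),
      hP.AB' 1 0 (by decide), smul_zero, add_zero, add_zero, mul_zero]
  have hXo : ∀ i j, i ≠ j → polarBilin Q (X i) (X j) = 0 := by
    have key : ∀ i j, i < j → polarBilin Q (X i) (X j) = 0 := by
      intro i j hij
      fin_cases i <;> fin_cases j
      all_goals first
        | exact absurd hij (by decide)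
        | exact hP.AA' _ _ (by decide)
        | exact hac _ _
        | exact hcc
    intro i j hij
    rcases lt_or_gt_of_ne hij with h1 | h1
    · exact key i j h1
    · rw [polar_symm]; exact key j i h1
  by_cases hcase : ∃ j, rep (inc (⇑Q)) (a j * a j) (A 0) = -A 0
  · -- the plane lies in a support
    obtain ⟨j, hj⟩ := hcase
    have hjB : rep (inc (⇑Q)) (a j * a j) (B 0) = -B 0 := by
      obtain ⟨α, -, e1, e2⟩ := hα j
      have e3 : (α + 1) • A 0 = 0 := by rw [add_smul, ← e1, hj, one_smul, neg_add_cancel]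
      have e4 : α = -1 := eq_neg_of_add_eq_zero_left ((smul_eq_zero.mp e3).resolve_right hA0)
      rw [e2, e4, neg_smul, one_smul]
    have step : ∀ (i : Fin 3) (k : Fin m), rep (inc (⇑Q)) (a k * a k) (A i) = -A i →
        rep (inc (⇑Q)) (a k * a k) (B i) = -B i → ∃ l, σ * (a k * a k) * σ⁻¹ = a l * a l ∧
          rep (inc (⇑Q)) (a l * a l) (A (i + 1)) = -A (i + 1) ∧
          rep (inc (⇑Q)) (a l * a l) (B (i + 1)) = -B (i + 1) := by
      intro i k h1 h4
      obtain ⟨l, hl⟩ := h.exists_z hσ k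
      refine ⟨l, hl, ?_, ?_⟩
      · rw [← hl, ← hS.hA, mul_ap, mul_ap, inv_ap, h1, map_neg]
      · rw [← hl, ← hS.hB, mul_ap, mul_ap, inv_ap, h4, map_neg]
    obtain ⟨l, hl, hlA, hlB⟩ := step 0 j hj hjB
    obtain ⟨r, hr, hrA, hrB⟩ := step (0 + 1) l hlA hlB
    obtain ⟨q, hq, hqA, hqB⟩ := step (0 + 1 + 1) r hrA hrB
    have hqj : q = j := by
      by_contra hne
      have e1 : A (0 + 1 + 1 + 1) = A 0 := rfl
      rw [e1] at hqA
      exact hA0 (h.eq_zero_of_two hne hqA hj)
    by_cases hjl : l = j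
    · -- all the planes lie in one support
      subst hjl
      have hrl : r = l := by
        by_contra hne
        have e1 : a r * a r = a l * a l := hr.symm.trans hl
        have hA2 : A (0 + 1 + 1) ≠ 0 := by
          intro h0
          have h1 := hP.AA (0 + 1 + 1)
          rw [h0, map_zero] at h1
          exact h.two h1.symm
        have hrA' : rep (inc (⇑Q)) (a l * a l) (A (0 + 1 + 1)) = -A (0 + 1 + 1) := by rw [← e1]; exact hrA
        exact hA2 (h.eq_zero_of_two hne hrA hrA')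
      subst hrl
      have hXU : ∀ j, X j ∈ Us E r := by
        have m0 := h.mem_Us_of_neg hj
        have m1 := h.mem_Us_of_neg hlA
        have m2 := h.mem_Us_of_neg hrA
        have n0 := h.mem_Us_of_neg hjB
        have n1 := h.mem_Us_of_neg hlB
        intro j
        fin_cases j
        · exact m0
        · exact m1
        · exact m2
        · exact Submodule.add_mem _ (Submodule.smul_mem _ _ n0) m0
        · exact Submodule.add_mem _ (Submodule.smul_mem _ _ n1) m1
      have := orth_card_le hX0 hXo hXU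
      rw [finrank_Us h.two h.frame, Fintype.card_fin] at this
      omega
    · have hrj : r ≠ j := by
        intro hrj
        subst hrj
        -- `σ z_j σ⁻¹ = z_l` and `= z_q = z_j`
        rw [hqj] at hq
        have e1 : a l * a l = a r * a r := hl.symm.trans hq
        have hA1 : A (0 + 1) ≠ 0 := by
          intro h0
          have h1 := hP.AA (0 + 1)
          rw [h0, map_zero] at h1
          exact h.two h1.symm
        have hlA' : rep (inc (⇑Q)) (a r * a r) (A (0 + 1)) = -A (0 + 1) := by rw [← e1]; exact hlA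
        exact hA1 (h.eq_zero_of_two hjl hlA hlA')
      obtain ⟨v, hv0, hv, hvA, hvB⟩ := h.exists_vec2 j (A 0) (B 0)
      have hvU := h.mem_Us_of_neg hv
      have hσv : rep (inc (⇑Q)) σ v = v := by
        apply hS.fix
        · intro i
          fin_cases i
          · exact hvA
          · exact Us_orth h.frame hjl (h.mem_Us_of_neg hlA) hvU
          · exact Us_orth h.frame hrj (h.mem_Us_of_neg hrA) hvU
        · intro i
          fin_cases i
          · exact hvB
          · exact Us_orth h.frame hjl (h.mem_Us_of_neg hlB) hvU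
          · exact Us_orth h.frame hrj (h.mem_Us_of_neg hrB) hvU
      have hσv' : rep (inc (⇑Q)) σ⁻¹ v = v := by
        have := inv_ap (rep (inc (⇑Q))) σ v
        rwa [hσv] at this
      apply hv0
      refine h.eq_zero_of_two hjl ?_ hv
      rw [← hl, mul_ap, mul_ap, hσv', hv, map_neg, hσv]
  · -- the planes are orthogonal to all the supports
    push Not at hcase
    have hfix0 : ∀ k, rep (inc (⇑Q)) (a k * a k) (A 0) = A 0 ∧ rep (inc (⇑Q)) (a k * a k) (B 0) = B 0 := by
      intro k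
      obtain ⟨α, hα, e1, e2⟩ := hα k
      rcases hα with rfl | rfl
      · rw [one_smul] at e1 e2
        exact ⟨e1, e2⟩
      · rw [neg_smul, one_smul] at e1
        exact absurd e1 (hcase k)
    have step : ∀ i : Fin 3, (∀ k, rep (inc (⇑Q)) (a k * a k) (A i) = A i ∧ rep (inc (⇑Q)) (a k * a k) (B i) = B i) →
        ∀ k, rep (inc (⇑Q)) (a k * a k) (A (i + 1)) = A (i + 1) ∧
          rep (inc (⇑Q)) (a k * a k) (B (i + 1)) = B (i + 1) := by
      intro i hi k
      obtain ⟨l, hl⟩ := h.exists_z (H.inv_mem hσ) k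
      have e1 : a k * a k = σ * (a l * a l) * σ⁻¹ := by rw [← hl]; group
      rw [e1, ← hS.hA, ← hS.hB, mul_ap, mul_ap, inv_ap, (hi l).1, mul_ap, mul_ap, inv_ap, (hi l).2]
      exact ⟨rfl, rfl⟩
    have hfix1 := step 0 hfix0
    have hfix2 := step (0 + 1) hfix1
    have horth : ∀ (j : Fin m × A4) (v : ι → F), (∀ k, rep (inc (⇑Q)) (a k * a k) v = v) →
        polarBilin Q (E j) v = 0 := by
      rintro ⟨k, α⟩ v hv
      have e1 := polar_omega (a k * a k) (E (k, α)) v
      have e2 : rep (inc (⇑Q)) (a k * a k) (E (k, α)) = -E (k, α) := (h.qd k).z_e h.two (Ek_frame h.frame k) α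
      rw [hv k, e2, map_neg, LinearMap.neg_apply] at e1
      have e3 : (2 : F) * polarBilin Q (E (k, α)) v = 0 := by linear_combination -e1
      exact (mul_eq_zero.mp e3).resolve_left h.two
    have hfc : ∀ (g : Cfsg.Omega F (⇑Q)) (u w : ι → F), rep (inc (⇑Q)) g u = u → rep (inc (⇑Q)) g w = w →
        rep (inc (⇑Q)) g ((2 : F) • w + u) = (2 : F) • w + u := by
      intro g u w h1 h4
      rw [map_add, map_smul, h1, h4]
    have hXf : ∀ j k, rep (inc (⇑Q)) (a k * a k) (X j) = X j := by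
      intro j k
      fin_cases j
      · exact (hfix0 k).1
      · exact (hfix1 k).1
      · exact (hfix2 k).1
      · exact hfc _ _ _ (hfix0 k).1 (hfix0 k).2
      · exact hfc _ _ _ (hfix1 k).1 (hfix1 k).2
    let Y : (Fin m × A4) ⊕ Fin 5 → ι → F := Sum.elim E X
    have hY0 : ∀ j, polarBilin Q (Y j) (Y j) ≠ 0 := by
      rintro (j | j)
      · show polarBilin Q (E j) (E j) ≠ 0
        rw [h.frame.self]
        exact h.two
      · exact hX0 j
    have hYo : ∀ i j, i ≠ j → polarBilin Q (Y i) (Y j) = 0 := by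
      rintro (i | i) (j | j) hij
      · exact h.frame.orth i j fun e => hij (congrArg Sum.inl e)
      · exact horth i (X j) (hXf j)
      · exact (polar_symm _ _).trans (horth j (X i) (hXf i))
      · exact hXo i j fun e => hij (congrArg Sum.inr e)
    have h1 := (orth_li hY0 hYo).fintype_card_le_finrank
    rw [Module.finrank_pi, Fintype.card_sum, Fintype.card_prod, Fintype.card_fin, Fintype.card_fin] at h1
    have h4 : Fintype.card A4 = 4 := rfl
    rw [h4] at h1
    have := h.dim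
    omega

end FS

end Cfsg.Agent.H170.RV
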