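import Cfsg.Agent.H170.RV.Three
import Cfsg.Agent.H571.RV.Pred
import Cfsg.Agent.H170.HL.OmRows
import Cfsg.Prelude.Def_LieTypeChar

/-!
# TEAM RV, box R5, the orthogonal rows (helper170)

`2, 3 ∈ π`, `p ∉ π`: the simple groups `POmega_n(q)`, `n ≥ 7`, `q` a power of `p`, do not satisfy `DB π`.
-/

set_option autoImplicit false
set_option linter.unusedSectionVars false

namespace Cfsg.Agent.H170.RV

open Module QuadraticMap Cfsg.Agent.H167.OP Cfsg.Agent.H170.HL Cfsg.Agent.H170.HL.OmRow Cfsg.Agent.H556.Om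
open Subgroup Cfsg Cfsg.Agent.H988.CPi Cfsg.Agent.H571.DExt Cfsg.Agent.H571.RV

/-- `p`-subgroups are conjugate into subgroups of index prime to `p` -/
theorem exists_conj_of {G : Type*} [Group G] [Finite G] {r : ℕ} (hr : r.Prime) {H P : Subgroup G} (hi : ¬ r ∣ H.index)
    (hP : IsPGroup r P) : ∃ g : G, ∀ x ∈ P, g * x * g⁻¹ ∈ H := by
  have : Fact r.Prime := ⟨hr⟩
  obtain ⟨P1, hP1⟩ := hP.exists_le_sylow
  obtain ⟨P2⟩ : Nonempty (Sylow r H) := inferInstance
  have h1 : IsPGroup r ((P2 : Subgroup H).map H.subtype) := P2.2.map _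
  have h2 : ¬ r ∣ ((P2 : Subgroup H).map H.subtype).index := by
    rw [Subgroup.index_map_subtype]
    intro hd
    rcases (hr.dvd_mul).mp hd with hd | hd
    · exact P2.not_dvd_index hd
    · exact hi hd
  obtain ⟨g, hg⟩ := MulAction.exists_smul_eq G P1 (h1.toSylow h2)
  refine ⟨g, fun x hx => ?_⟩
  have h3 : g * x * g⁻¹ ∈ g • P1 := by
    have := Subgroup.smul_mem_pointwise_smul x (MulAut.conj g) (P1 : Subgroup G) (hP1 hx)
    exact this
  rw [hg] at h3
  exact Subgroup.map_subtype_le _ h3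

theorem piN_of_isPGroup {G : Type*} [Group G] [Finite G] {π : Set ℕ} {r : ℕ} (hr : r.Prime) (hrπ : r ∈ π)
    {P : Subgroup G} (hP : IsPGroup r P) : PiN π (Nat.card P) := by
  have : Fact r.Prime := ⟨hr⟩
  obtain ⟨n, hn⟩ := IsPGroup.iff_card.mp hP
  intro q hq hd
  rw [hn] at hd
  rw [(Nat.prime_dvd_prime_iff_eq hq hr).mp (hq.dvd_of_dvd_pow hd)]
  exact hrπ

/-- conjugation of generators -/
theorem mem_normalizer_of_gen {G : Type*} [Group G] [Finite G] {S : Set G} {g : G}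
    (h : ∀ x ∈ S, g * x * g⁻¹ ∈ Subgroup.closure S) : g ∈ normalizer (Subgroup.closure S : Set G) := by
  apply Subgroup.mem_normalizer_fintype
  intro n hn
  rw [SetLike.mem_coe] at hn ⊢
  induction hn using Subgroup.closure_induction with
  | mem n hn => exact h n hn
  | one => rw [mul_one, mul_inv_cancel]; exact one_mem _
  | mul a b _ _ iha ihb =>
    have : g * (a * b) * g⁻¹ = (g * a * g⁻¹) * (g * b * g⁻¹) := by group
    rw [this]
    exact mul_mem iha ihb
  | inv a _ iha =>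
    have : g * a⁻¹ * g⁻¹ = (g * a * g⁻¹)⁻¹ := by group
    rw [this]
    exact inv_mem iha

/-- the central product of the groups `SL₂(3)` -/
theorem exists_K {F : Type*} [Field F] [Finite F] {ι : Type} [Fintype ι] [DecidableEq ι]
    {Q : QuadraticForm F (ι → F)} (h2 : (2 : F) ≠ 0) {m : ℕ} {E : Fin m × A4 → ι → F}
    (hE : Frame (polarBilin Q) E) {a b c s : Fin m → Cfsg.Omega F (⇑Q)}
    (hq : ∀ k, QD Q (Ek E k) (a k) (b k) (c k) (s k)) {π : Set ℕ} (h2π : 2 ∈ π) (h3π : 3 ∈ π) :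
    ∃ K : Subgroup (Cfsg.Omega F (⇑Q)), PiN π (Nat.card K) ∧ ∀ k, a k ∈ K ∧ b k ∈ K ∧ c k ∈ K ∧ s k ∈ K := by
  have hfin : Finite (Cfsg.Omega F (⇑Q)) := inferInstance
  let S0 : Set (Cfsg.Omega F (⇑Q)) := {x | ∃ k, x = a k ∨ x = b k ∨ x = c k}
  have hB : IsPGroup 2 (Subgroup.closure S0) := by
    refine (BG_isPGroup h2 hE).to_le ?_
    rw [Subgroup.closure_le]
    rintro x ⟨k, rfl | rfl | rfl⟩
    · exact RG_le_BG h2 hE k (hq k).ma
    · exact RG_le_BG h2 hE k (hq k).mb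
    · exact RG_le_BG h2 hE k (hq k).mc
  have horth : ∀ k l, k ≠ l → ∀ i j, polarBilin Q (Ek E k i) (Ek E l j) = 0 := by
    intro k l hkl i j
    exact hE.orth _ _ fun h => hkl (congrArg Prod.fst h)
  have hS : IsPGroup 3 (Subgroup.closure (Set.range s)) := by
    refine closure_pgroup ?_ ?_
    · rintro _ ⟨k, rfl⟩ _ ⟨l, rfl⟩
      by_cases hkl : k = l
      · rw [hkl]
      · exact comm_of_orth (fun v hv => (hq k).fix_s h2 hv) (fun v hv => (hq l).fix_s h2 hv) (horth k l hkl)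
    · rintro _ ⟨k, rfl⟩
      exact (hq k).s3 h2 (Ek_frame hE k)
  have hN : Subgroup.closure (Set.range s) ≤ normalizer (Subgroup.closure S0 : Set (Cfsg.Omega F (⇑Q))) := by
    rw [Subgroup.closure_le]
    rintro _ ⟨k, rfl⟩
    refine mem_normalizer_of_gen ?_
    have hcom : ∀ {x y : Cfsg.Omega F (⇑Q)}, x * y = y * x → y ∈ S0 → x * y * x⁻¹ ∈ Subgroup.closure S0 := by
      intro x y hxy hy
      rw [hxy, mul_inv_cancel_right]
      exact Subgroup.subset_closure hy
    have hconj : ∀ {x y z : Cfsg.Omega F (⇑Q)}, x * y = z * x → z ∈ S0 → x * y * x⁻¹ ∈ Subgroup.closure S0 := by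
      intro x y z hxy hz
      rw [hxy, mul_inv_cancel_right]
      exact Subgroup.subset_closure hz
    rintro x ⟨l, hx⟩
    by_cases hkl : k = l
    · subst hkl
      rcases hx with rfl | rfl | rfl
      · exact hconj ((hq k).sa h2 (Ek_frame hE k)) ⟨k, Or.inr (Or.inr rfl)⟩
      · exact hconj ((hq k).sb h2 (Ek_frame hE k)) ⟨k, Or.inl rfl⟩
      · exact hconj ((hq k).sc h2 (Ek_frame hE k)) ⟨k, Or.inr (Or.inl rfl)⟩
    · refine hcom ?_ ⟨l, hx⟩
      rcases hx with rfl | rfl | rfl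
      · exact comm_of_orth (fun v hv => (hq k).fix_s h2 hv) (fun v hv => (hq l).fix_a hv) (horth k l hkl)
      · exact comm_of_orth (fun v hv => (hq k).fix_s h2 hv) (fun v hv => (hq l).fix_b hv) (horth k l hkl)
      · exact comm_of_orth (fun v hv => (hq k).fix_s h2 hv) (fun v hv => (hq l).fix_c hv) (horth k l hkl)
  refine ⟨Subgroup.closure (Set.range s) ⊔ Subgroup.closure S0, piN_sup hN (piN_of_isPGroup Nat.prime_three h3π hS)
    (piN_of_isPGroup Nat.prime_two h2π hB), fun k => ⟨?_, ?_, ?_, ?_⟩⟩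
  · exact Subgroup.mem_sup_right (Subgroup.subset_closure ⟨k, Or.inl rfl⟩)
  · exact Subgroup.mem_sup_right (Subgroup.subset_closure ⟨k, Or.inr (Or.inl rfl)⟩)
  · exact Subgroup.mem_sup_right (Subgroup.subset_closure ⟨k, Or.inr (Or.inr rfl)⟩)
  · exact Subgroup.mem_sup_left (Subgroup.subset_closure ⟨k, rfl⟩)

variable {π : Set ℕ}

/-- **box R5 for `POmega`** -/
theorem not_DB_omega {S : Type*} [Group S] [Finite S] (h2π : 2 ∈ π) (h3π : 3 ∈ π)
    {F : Type} [Field F] [Finite F] {p : ℕ}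
    [CharP F p] (hp : p.Prime) (hpπ : p ∉ π) {ι : Type} [Fintype ι]
    [DecidableEq ι] {Q : QuadraticForm F (ι → F)} (hQ : GoodQ Q) (h7 : 7 ≤ Fintype.card ι) {Q' : (ι → F) → F}
    (hQQ : ⇑Q = Q') (e : S ≃* Cfsg.POmega F Q') : ¬ DB π S := by
  intro hDB
  subst hQQ
  have hfin : Finite (Cfsg.Omega F (⇑Q)) := inferInstance
  have hp5 : 5 ≤ p := by
    by_contra hcon
    have h1 := hp.two_le
    interval_cases p
    · exact hpπ h2π
    · exact hpπ h3π
    · exact absurd hp (by decide)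
  have h2 : (2 : F) ≠ 0 := by
    intro h
    have h1 : ((2 : ℕ) : F) = 0 := by exact_mod_cast h
    rw [CharP.cast_eq_zero_iff F p, Nat.prime_dvd_prime_iff_eq hp Nat.prime_two] at h1
    omega
  have h3 : (3 : F) ≠ 0 := by
    intro h
    have h1 : ((3 : ℕ) : F) = 0 := by exact_mod_cast h
    rw [CharP.cast_eq_zero_iff F p, Nat.prime_dvd_prime_iff_eq hp Nat.prime_three] at h1
    omega
  let φ : Cfsg.Omega F (⇑Q) →* S :=
    (e.symm : Cfsg.POmega F (⇑Q) →* S).comp
      (QuotientGroup.mk' (Subgroup.center (Cfsg.Omega F (⇑Q))))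
  have hφ : Function.Surjective φ :=
    e.symm.surjective.comp (QuotientGroup.mk'_surjective _)
  have hφ1 : ∀ k, φ k = 1 → k * k = 1 := by
    intro k h
    have hk : k ∈ Subgroup.center (Cfsg.Omega F (⇑Q)) := by
      rw [← QuotientGroup.eq_one_iff]
      exact e.symm.injective (h.trans (map_one e.symm).symm)
    have h1 := (Cfsg.Agent.LieClassical.OmegaCenter.mem_center_omega_iff Q hQ.nd hQ.card hQ.sing k).mp hk
    apply inc_injective
    rw [map_mul, map_one]
    have h1' : inc (⇑Q) k = 1 ∨ inc (⇑Q) k = -1 := h1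
    rcases h1' with h | h
    · rw [h, one_mul]
    · rw [h, neg_mul_neg, one_mul]
  -- the maximal family
  obtain ⟨m, E, hE, hdim, hmax⟩ := exists_max hQ.nd h2
  have hqd := fun k => exists_qd hQ h2 (Ek_frame hE k)
  choose a b c s hq using hqd
  obtain ⟨K, hK, hKm⟩ := exists_K h2 hE hq h2π h3π
  obtain ⟨H, hH', hKH⟩ := hDB.dom (K.map φ) (hK.of_dvd (K.card_map_dvd φ))
  -- the preimage
  have hHp : IsPiHall π (H.comap φ) := by
    constructor
    · intro r hr hd
      have := Fact.mk hr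
      obtain ⟨x, hx⟩ := exists_prime_orderOf_dvd_card' (G := H.comap φ) r hd
      by_cases h1 : φ (x : Cfsg.Omega F (⇑Q)) = 1
      · have h3 : x * x = 1 := Subtype.ext (hφ1 _ h1)
        have h4 : r ∣ 2 := by
          rw [← hx]
          exact orderOf_dvd_of_pow_eq_one (by rw [pow_two]; exact h3)
        rw [(Nat.prime_dvd_prime_iff_eq hr Nat.prime_two).mp h4]
        exact h2π
      · apply hH'.1 r hr
        let z : H := ⟨φ x, x.2⟩
        have h3 : z ^ r = 1 := by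
          apply Subtype.ext
          show (φ x) ^ r = 1
          rw [← map_pow]
          have : x ^ r = 1 := by rw [← hx, pow_orderOf_eq_one]
          have h4 : (x : Cfsg.Omega F (⇑Q)) ^ r = 1 := congrArg Subtype.val this
          rw [h4, map_one]
        have h4 : orderOf z = r := orderOf_eq_prime h3 fun h => h1 (congrArg Subtype.val h)
        rw [← h4]
        exact orderOf_dvd_natCard z
    · intro r hr hrπ hd
      rw [index_comap_of_surjective H hφ] at hd
      exact hH'.2 r hr hrπ hd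
  have hKH' : K ≤ H.comap φ := Subgroup.map_le_iff_le_comap.mp hKH
  have hFS : FS Q p (H.comap φ) E a b c s :=
    { gq := hQ
      two := h2
      prime := hp
      five := hp5
      card := fun hd => hpπ (hHp.1 p hp hd)
      frame := hE
      qd := hq
      sub := fun k => ⟨hKH' (hKm k).1, hKH' (hKm k).2.1, hKH' (hKm k).2.2.1, hKH' (hKm k).2.2.2⟩
      max := hmax
      dim := hdim }
  obtain ⟨A, B, y, σ, hP, hY, hSσ, T, hT, hyT, hσT⟩ := exists_three hQ h2 h3 h7
  obtain ⟨g, hg⟩ := exists_conj_of Nat.prime_three (fun hd => hHp.2 3 Nat.prime_three h3π hd) hT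
  exact hFS.false (hP.map g) (hg y hyT) (hg σ hσT) (hY.map g) (hSσ.map g)

variable {S : Type*} [Group S] [Finite S]

/-- R5, `POmega_{2m+1}(q)` -/
theorem r5_oOdd (h2π : 2 ∈ π) (h3π : 3 ∈ π) (p : ℕ) (hp : p.Prime) (hpπ : p ∉ π) (h : IsPOmegaOddChar p S) :
    ¬ DB π S := by
  obtain ⟨F, _, _, hchar, m, hm, hoddF, ⟨e⟩⟩ := h
  have h2 : (2 : F) ≠ 0 := by
    intro h
    have h1 : ((2 : ℕ) : F) = 0 := by exact_mod_cast h
    rw [CharP.cast_eq_zero_iff F p, Nat.prime_dvd_prime_iff_eq hp Nat.prime_two] at h1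
    exact hpπ (h1 ▸ h2π)
  exact not_DB_omega h2π h3π hp hpπ (goodQ_odd (by omega) h2) (by simp; omega)
    (Cfsg.Agent.LieClassical.OrthForms.coe_oddForm m F) e

/-- R5, `POmega⁺_{2m}(q)` -/
theorem r5_oPlus (h2π : 2 ∈ π) (h3π : 3 ∈ π) (p : ℕ) (hp : p.Prime) (hpπ : p ∉ π) (h : IsPOmegaPlusChar p S) :
    ¬ DB π S := by
  obtain ⟨F, _, _, hchar, m, hm, ⟨e⟩⟩ := h
  exact not_DB_omega h2π h3π hp hpπ (goodQ_plus (by omega)) (by simp; omega)
    (Cfsg.Agent.LieClassical.OrthForms.coe_plusForm m F) e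

/-- R5, `POmega⁻_{2m}(q)` -/
theorem r5_oMinus (h2π : 2 ∈ π) (h3π : 3 ∈ π) (p : ℕ) (hp : p.Prime) (hpπ : p ∉ π) (h : IsPOmegaMinusChar p S) :
    ¬ DB π S := by
  obtain ⟨F, _, _, hchar, m, a, b, hm, hab, ⟨e⟩⟩ := h
  exact not_DB_omega h2π h3π hp hpπ (goodQ_minus (by omega) a b hab) (by simp; omega)
    (Cfsg.Agent.LieClassical.OrthForms.coe_minusForm (m - 1) F a b) e

end Cfsg.Agent.H170.RV
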