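import Cfsg.Agent.H556.OmMax

/-!
# The quaternion group and `SL₂(3)` attached to a 4-frame (helper170)

For an orthonormal 4-frame `e` (index group `ZMod 2 × ZMod 2`) of an orthogonal space: elements `a, b, c, s` of `Omega`
acting on the span of `e` as left multiplication by the quaternions `i, j, k, (-1+i+j+k)/2`.
-/

set_option autoImplicit false
set_option linter.unusedSectionVars false
set_option linter.unusedSimpArgs false

namespace Cfsg.Agent.H170.RV

open Module QuadraticMap Cfsg.Agent.H167.OP Cfsg.Agent.H170.HL Cfsg.Agent.H170.HL.OmRow Cfsg.Agent.H556.Om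

variable {F : Type*} [Field F] {ι : Type} [Fintype ι] [DecidableEq ι] {Q : QuadraticForm F (ι → F)}

/-- signs -/
def sI (j : A4) : ℤ := if j.2 = 0 then 1 else -1
/-- signs -/
def sJ (j : A4) : ℤ := if j.1 = j.2 then 1 else -1
/-- signs -/
def sK (j : A4) : ℤ := if j.1 = 0 then 1 else -1

/-- signed translations -/
noncomputable def mz (Q : QuadraticForm F (ι → F)) (e : A4 → ι → F) (s : A4 → ℤ) (a : A4) :
    Module.End F (ι → F) := mono (polarBilin Q) e (fun j => ((s j : ℤ) : F)) (a + ·)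

variable {e : A4 → ι → F}

theorem mz_mul (hF : Frame (polarBilin Q) e) (h2 : (2 : F) ≠ 0) (s t : A4 → ℤ) (a b : A4) :
    mz Q e s a * mz Q e t b = mz Q e (fun j => t j * s (b + j)) (a + b) := by
  unfold mz
  rw [mono_mul hF h2]
  congr 1
  · funext j
    push_cast
    rfl
  · funext j
    show a + (b + j) = a + b + j
    rw [add_assoc]

theorem mz_e (hF : Frame (polarBilin Q) e) (h2 : (2 : F) ≠ 0) (s : A4 → ℤ) (a j : A4) :
    mz Q e s a (e j) = ((s j : ℤ) : F) • e (a + j) := mono_e hF h2 j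

theorem mz_orth {s : A4 → ℤ} {a : A4} {v : ι → F} (h : ∀ j, polarBilin Q (e j) v = 0) : mz Q e s a v = v :=
  mono_orth h

theorem mz_one (hF : Frame (polarBilin Q) e) (h2 : (2 : F) ≠ 0) : mz Q e (fun _ => 1) 0 = 1 := by
  unfold mz
  exact mono_one hF h2 (fun _ => by simp) fun j => by simp

theorem exists_mz (hQ : GoodQ Q) (h2 : (2 : F) ≠ 0) (hF : Frame (polarBilin Q) e) {s : A4 → ℤ} {a i j : A4}
    (hij : i ≠ j) (h : ∀ k, s k = if k = i ∨ k = j then -1 else 1) :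
    ∃ x ∈ RG Q e, rep (inc (⇑Q)) x = mz Q e s a := by
  obtain ⟨x, hx, hxr⟩ := exists_T hQ h2 hF a
  obtain ⟨y, hy, hyr⟩ := exists_D hQ h2 hF hij
  refine ⟨x * y, mul_mem hx hy, ?_⟩
  rw [map_mul, hxr, hyr, mono_mul hF h2]
  unfold mz
  congr 1
  funext k
  rw [h k, mul_one]
  unfold sg
  split_ifs <;> simp

/-- the relations of the quaternion elements -/
structure Rel (A B C Z : Module.End F (ι → F)) : Prop where
  AA : ∀ w, A (A w) = Z w
  BB : ∀ w, B (B w) = Z w
  CC : ∀ w, C (C w) = Z w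
  AB : ∀ w, A (B w) = C w
  BC : ∀ w, B (C w) = A w
  CA : ∀ w, C (A w) = B w
  BA : ∀ w, B (A w) = w + Z w - C w
  CB : ∀ w, C (B w) = w + Z w - A w
  AC : ∀ w, A (C w) = w + Z w - B w
  ZZ : ∀ w, Z (Z w) = w
  ZA : ∀ w, Z (A w) = w + Z w - A w
  ZB : ∀ w, Z (B w) = w + Z w - B w
  ZC : ∀ w, Z (C w) = w + Z w - C w
  AZ : ∀ w, A (Z w) = w + Z w - A w
  BZ : ∀ w, B (Z w) = w + Z w - B w
  CZ : ∀ w, C (Z w) = w + Z w - C w

theorem rel_mz (hF : Frame (polarBilin Q) e) (h2 : (2 : F) ≠ 0) :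
    Rel (mz Q e sI (0, 1)) (mz Q e sJ (1, 0)) (mz Q e sK (1, 1)) (mz Q e (fun _ => -1) 0) := by
  have key : ∀ (s t u : A4 → ℤ) (a b c : A4), (∀ j, t j * s (b + j) = u j) → a + b = c →
      ∀ w, mz Q e s a (mz Q e t b w) = mz Q e u c w := by
    intro s t u a b c h1 h3 w
    have h4 : mz Q e s a * mz Q e t b = mz Q e u c := by
      rw [mz_mul hF h2, h3]
      congr 1
      funext j
      exact h1 j
    exact LinearMap.congr_fun h4 w
  -- `w + Z w - x w = x' w`
  have hneg : ∀ (s : A4 → ℤ) (a : A4) (w : ι → F), mz Q e (fun j => -(s j)) a w =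
      w + mz Q e (fun _ => -1) 0 w - mz Q e s a w := by
    intro s a w
    have h5 : mz Q e (fun j => -(s j)) a = 1 + mz Q e (fun _ => -1) 0 - mz Q e s a := by
      refine ext_frame hF h2 (fun j => ?_) fun w hw => ?_
      · show _ = e j + mz Q e (fun _ => -1) 0 (e j) - mz Q e s a (e j)
        rw [mz_e hF h2, mz_e hF h2, mz_e hF h2, zero_add]
        push_cast
        module
      · show _ = w + mz Q e (fun _ => -1) 0 w - mz Q e s a w
        rw [mz_orth hw, mz_orth hw, mz_orth hw]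
        abel
    rw [h5]
    rfl
  have key' : ∀ (s t u : A4 → ℤ) (a b c : A4), (∀ j, t j * s (b + j) = - u j) → a + b = c →
      ∀ w, mz Q e s a (mz Q e t b w) = w + mz Q e (fun _ => -1) 0 w - mz Q e u c w := by
    intro s t u a b c h1 h3 w
    rw [← hneg, key s t (fun j => -(u j)) a b c h1 h3]
  exact
    { AA := key _ _ _ _ _ _ (by decide) (by decide)
      BB := key _ _ _ _ _ _ (by decide) (by decide)
      CC := key _ _ _ _ _ _ (by decide) (by decide)
      AB := key _ _ _ _ _ _ (by decide) (by decide)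
      BC := key _ _ _ _ _ _ (by decide) (by decide)
      CA := key _ _ _ _ _ _ (by decide) (by decide)
      BA := key' _ _ _ _ _ _ (by decide) (by decide)
      CB := key' _ _ _ _ _ _ (by decide) (by decide)
      AC := key' _ _ _ _ _ _ (by decide) (by decide)
      ZZ := fun w => by
        rw [key _ _ (fun _ => 1) _ _ 0 (by decide) (by decide), mz_one hF h2]
        rfl
      ZA := key' _ _ _ _ _ _ (by decide) (by decide)
      ZB := key' _ _ _ _ _ _ (by decide) (by decide)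
      ZC := key' _ _ _ _ _ _ (by decide) (by decide)
      AZ := key' _ _ _ _ _ _ (by decide) (by decide)
      BZ := key' _ _ _ _ _ _ (by decide) (by decide)
      CZ := key' _ _ _ _ _ _ (by decide) (by decide) }

section rel

variable {A B C Z : Module.End F (ι → F)}

/-- the element of order 3 -/
noncomputable def SS (A B C : Module.End F (ι → F)) : Module.End F (ι → F) := (2 : F)⁻¹ • (A + B + C - 1)

theorem SS_apply (A B C : Module.End F (ι → F)) (w : ι → F) :
    SS A B C w = (2 : F)⁻¹ • (A w + B w + C w - w) := rfl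

theorem Rel.SSS (h : Rel A B C Z) (h2 : (2 : F) ≠ 0) (w : ι → F) : SS A B C (SS A B C (SS A B C w)) = w := by
  simp only [SS_apply, map_add, map_sub, map_smul, h.AA, h.BB, h.CC, h.AB, h.BC, h.CA, h.BA, h.CB, h.AC, h.ZA, h.ZB,
    h.ZC, h.AZ, h.BZ, h.CZ, h.ZZ]
  match_scalars <;> field_simp <;> ring

theorem Rel.SA (h : Rel A B C Z) (w : ι → F) : SS A B C (A w) = C (SS A B C w) := by
  simp only [SS_apply, map_add, map_sub, map_smul, h.AA, h.BB, h.CC, h.AB, h.BC, h.CA, h.BA, h.CB, h.AC]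
  module

theorem Rel.SB (h : Rel A B C Z) (w : ι → F) : SS A B C (B w) = A (SS A B C w) := by
  simp only [SS_apply, map_add, map_sub, map_smul, h.AA, h.BB, h.CC, h.AB, h.BC, h.CA, h.BA, h.CB, h.AC]
  module

theorem Rel.SC (h : Rel A B C Z) (w : ι → F) : SS A B C (C w) = B (SS A B C w) := by
  simp only [SS_apply, map_add, map_sub, map_smul, h.AA, h.BB, h.CC, h.AB, h.BC, h.CA, h.BA, h.CB, h.AC]
  module

theorem Rel.iso (h : Rel A B C Z) (h2 : (2 : F) ≠ 0) {f : (ι → F) →ₗ[F] (ι → F) →ₗ[F] F}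
    (hA : ∀ u v, f (A u) (A v) = f u v) (hB : ∀ u v, f (B u) (B v) = f u v) (hC : ∀ u v, f (C u) (C v) = f u v)
    (u v : ι → F) : f (SS A B C u) (SS A B C v) = f u v := by
  have eA : ∀ w, f (A u) w = f u (w + Z w - A w) := by
    intro w
    rw [← hA u, map_sub, map_add, h.AA, h.AZ]
    congr 1
    abel
  have eB : ∀ w, f (B u) w = f u (w + Z w - B w) := by
    intro w
    rw [← hB u, map_sub, map_add, h.BB, h.BZ]
    congr 1
    abel
  have eC : ∀ w, f (C u) w = f u (w + Z w - C w) := by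
    intro w
    rw [← hC u, map_sub, map_add, h.CC, h.CZ]
    congr 1
    abel
  simp only [SS_apply, map_add, map_sub, map_smul, LinearMap.add_apply, LinearMap.sub_apply, LinearMap.smul_apply, eA,
    eB, eC, h.AA, h.BB, h.CC, h.AB, h.BC, h.CA, h.BA, h.CB, h.AC, h.ZA, h.ZB, h.ZC, h.AZ, h.BZ, h.CZ, h.ZZ,
    smul_eq_mul]
  field_simp
  ring

/-- the polynomial of the element of order 6 -/
theorem Rel.poly (h : Rel A B C Z) (h2 : (2 : F) ≠ 0) (w : ι → F) :
    Z (SS A B C (Z (SS A B C (Z (SS A B C w))))) - (2 : F) • Z (SS A B C (Z (SS A B C w))) +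
      (2 : F) • Z (SS A B C w) - w = 0 := by
  simp only [SS_apply, map_add, map_sub, map_smul, h.AA, h.BB, h.CC, h.AB, h.BC, h.CA, h.BA, h.CB, h.AC, h.ZA, h.ZB,
    h.ZC, h.AZ, h.BZ, h.CZ, h.ZZ]
  match_scalars <;> field_simp <;> ring

theorem Rel.cube (h : Rel A B C Z) (h2 : (2 : F) ≠ 0) (w : ι → F) :
    Z (SS A B C (Z (SS A B C (Z (SS A B C w))))) = Z w := by
  simp only [SS_apply, map_add, map_sub, map_smul, h.AA, h.BB, h.CC, h.AB, h.BC, h.CA, h.BA, h.CB, h.AC, h.ZA, h.ZB,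
    h.ZC, h.AZ, h.BZ, h.CZ, h.ZZ]
  match_scalars <;> field_simp <;> ring

end rel

/-- the quaternion elements -/
structure QD (Q : QuadraticForm F (ι → F)) (e : A4 → ι → F) (a b c s : Cfsg.Omega F (⇑Q)) : Prop where
  ma : a ∈ RG Q e
  mb : b ∈ RG Q e
  mc : c ∈ RG Q e
  ra : rep (inc (⇑Q)) a = mz Q e sI (0, 1)
  rb : rep (inc (⇑Q)) b = mz Q e sJ (1, 0)
  rc : rep (inc (⇑Q)) c = mz Q e sK (1, 1)
  rs : rep (inc (⇑Q)) s = SS (rep (inc (⇑Q)) a) (rep (inc (⇑Q)) b) (rep (inc (⇑Q)) c)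

/-- existence of the quaternion elements -/
theorem exists_qd (hQ : GoodQ Q) (h2 : (2 : F) ≠ 0) (hF : Frame (polarBilin Q) e) :
    ∃ a b c s : Cfsg.Omega F (⇑Q), QD Q e a b c s := by
  obtain ⟨a, ha, har⟩ := exists_mz (s := sI) (a := (0, 1)) hQ h2 hF (i := (0, 1)) (j := (1, 1)) (by decide) (by decide)
  obtain ⟨b, hb, hbr⟩ := exists_mz (s := sJ) (a := (1, 0)) hQ h2 hF (i := (0, 1)) (j := (1, 0)) (by decide) (by decide)
  obtain ⟨c, hc, hcr⟩ := exists_mz (s := sK) (a := (1, 1)) hQ h2 hF (i := (1, 0)) (j := (1, 1)) (by decide) (by decide)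
  have hrel := rel_mz (Q := Q) hF h2
  rw [← har, ← hbr, ← hcr] at hrel
  set A := rep (inc (⇑Q)) a with hA
  set B := rep (inc (⇑Q)) b with hB
  set C := rep (inc (⇑Q)) c with hC
  have hS3 : SS A B C * (SS A B C * SS A B C) = 1 := LinearMap.ext fun w => hrel.SSS h2 w
  have hS3' : (SS A B C * SS A B C) * SS A B C = 1 := by rw [mul_assoc, hS3]
  have hiso := hrel.iso h2 (polar_omega a) (polar_omega b) (polar_omega c)
  obtain ⟨g, hg⟩ := exists_of_iso (⇑Q) (SS A B C) (SS A B C * SS A B C) hS3 hS3' (Q_eq_of h2 hiso)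
  have hg3 : g ^ 3 = 1 := by
    apply rep_injective inc'_injective
    rw [pow_succ, pow_two, map_mul, map_mul, hg, hS3', map_one]
  have hgm := mem_omega_of_odd hQ (t := 3) (by decide) hg3
  exact ⟨a, b, c, ⟨g, hgm⟩, ha, hb, hc, har, hbr, hcr, hg⟩

namespace QD

variable {a b c s : Cfsg.Omega F (⇑Q)}

theorem rel (h : QD Q e a b c s) (h2 : (2 : F) ≠ 0) (hF : Frame (polarBilin Q) e) :
    Rel (rep (inc (⇑Q)) a) (rep (inc (⇑Q)) b) (rep (inc (⇑Q)) c) (mz Q e (fun _ => -1) 0) := by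
  rw [h.ra, h.rb, h.rc]
  exact rel_mz hF h2

theorem rz (h : QD Q e a b c s) (h2 : (2 : F) ≠ 0) (hF : Frame (polarBilin Q) e) :
    rep (inc (⇑Q)) (a * a) = mz Q e (fun _ => -1) 0 := by
  apply LinearMap.ext
  intro v
  rw [mul_ap]
  exact (h.rel h2 hF).AA v

theorem z_e (h : QD Q e a b c s) (h2 : (2 : F) ≠ 0) (hF : Frame (polarBilin Q) e) (j : A4) :
    rep (inc (⇑Q)) (a * a) (e j) = - e j := by
  rw [h.rz h2 hF, mz_e hF h2, zero_add]
  push_cast
  rw [neg_smul, one_smul]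

theorem fix_a (h : QD Q e a b c s) {v : ι → F} (hv : ∀ j, polarBilin Q (e j) v = 0) :
    rep (inc (⇑Q)) a v = v := by rw [h.ra]; exact mz_orth hv

theorem fix_b (h : QD Q e a b c s) {v : ι → F} (hv : ∀ j, polarBilin Q (e j) v = 0) :
    rep (inc (⇑Q)) b v = v := by rw [h.rb]; exact mz_orth hv

theorem fix_c (h : QD Q e a b c s) {v : ι → F} (hv : ∀ j, polarBilin Q (e j) v = 0) :
    rep (inc (⇑Q)) c v = v := by rw [h.rc]; exact mz_orth hv

theorem fix_z (h : QD Q e a b c s) {v : ι → F} (hv : ∀ j, polarBilin Q (e j) v = 0) :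
    rep (inc (⇑Q)) (a * a) v = v := by rw [mul_ap, h.fix_a hv, h.fix_a hv]

theorem fix_s (h : QD Q e a b c s) (h2 : (2 : F) ≠ 0) {v : ι → F} (hv : ∀ j, polarBilin Q (e j) v = 0) :
    rep (inc (⇑Q)) s v = v := by
  rw [h.rs, SS_apply, h.fix_a hv, h.fix_b hv, h.fix_c hv]
  have : v + v + v - v = (2 : F) • v := by module
  rw [this, smul_smul, inv_mul_cancel₀ h2, one_smul]

theorem ab (h : QD Q e a b c s) (h2 : (2 : F) ≠ 0) (hF : Frame (polarBilin Q) e) : a * b = c := by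
  apply rep_inj
  apply LinearMap.ext
  intro v
  rw [mul_ap]
  exact (h.rel h2 hF).AB v

theorem bb (h : QD Q e a b c s) (h2 : (2 : F) ≠ 0) (hF : Frame (polarBilin Q) e) : b * b = a * a := by
  apply rep_inj
  apply LinearMap.ext
  intro v
  rw [mul_ap, mul_ap]
  exact ((h.rel h2 hF).BB v).trans ((h.rel h2 hF).AA v).symm

theorem cc (h : QD Q e a b c s) (h2 : (2 : F) ≠ 0) (hF : Frame (polarBilin Q) e) : c * c = a * a := by
  apply rep_inj
  apply LinearMap.ext
  intro v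
  rw [mul_ap, mul_ap]
  exact ((h.rel h2 hF).CC v).trans ((h.rel h2 hF).AA v).symm

theorem sa (h : QD Q e a b c s) (h2 : (2 : F) ≠ 0) (hF : Frame (polarBilin Q) e) : s * a = c * s := by
  apply rep_inj
  apply LinearMap.ext
  intro v
  rw [mul_ap, mul_ap, h.rs]
  exact (h.rel h2 hF).SA v

theorem sb (h : QD Q e a b c s) (h2 : (2 : F) ≠ 0) (hF : Frame (polarBilin Q) e) : s * b = a * s := by
  apply rep_inj
  apply LinearMap.ext
  intro v
  rw [mul_ap, mul_ap, h.rs]
  exact (h.rel h2 hF).SB v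

theorem sc (h : QD Q e a b c s) (h2 : (2 : F) ≠ 0) (hF : Frame (polarBilin Q) e) : s * c = b * s := by
  apply rep_inj
  apply LinearMap.ext
  intro v
  rw [mul_ap, mul_ap, h.rs]
  exact (h.rel h2 hF).SC v

theorem s3 (h : QD Q e a b c s) (h2 : (2 : F) ≠ 0) (hF : Frame (polarBilin Q) e) : s ^ 3 = 1 := by
  apply rep_inj
  apply LinearMap.ext
  intro v
  rw [pow_succ, pow_two, mul_ap, mul_ap, h.rs, (h.rel h2 hF).SSS h2, map_one]
  rfl

theorem poly (h : QD Q e a b c s) (h2 : (2 : F) ≠ 0) (hF : Frame (polarBilin Q) e) (v : ι → F) :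
    rep (inc (⇑Q)) (a * a * s) (rep (inc (⇑Q)) (a * a * s) (rep (inc (⇑Q)) (a * a * s) v)) -
      (2 : F) • rep (inc (⇑Q)) (a * a * s) (rep (inc (⇑Q)) (a * a * s) v) +
      (2 : F) • rep (inc (⇑Q)) (a * a * s) v - v = 0 := by
  have h1 : ∀ w, rep (inc (⇑Q)) (a * a * s) w = mz Q e (fun _ => -1) 0 (SS (rep (inc (⇑Q)) a) (rep (inc (⇑Q)) b)
      (rep (inc (⇑Q)) c) w) := by
    intro w
    rw [mul_ap, h.rz h2 hF, h.rs]
  rw [h1, h1, h1]
  exact (h.rel h2 hF).poly h2 v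

theorem t3 (h : QD Q e a b c s) (h2 : (2 : F) ≠ 0) (hF : Frame (polarBilin Q) e) : (a * a * s) ^ 3 = a * a := by
  apply rep_inj
  apply LinearMap.ext
  intro v
  have h1 : ∀ w, rep (inc (⇑Q)) (a * a * s) w = mz Q e (fun _ => -1) 0 (SS (rep (inc (⇑Q)) a) (rep (inc (⇑Q)) b)
      (rep (inc (⇑Q)) c) w) := by
    intro w
    rw [mul_ap, h.rz h2 hF, h.rs]
  rw [pow_succ, pow_two, mul_ap, mul_ap, h1, h1, h1, (h.rel h2 hF).cube h2, h.rz h2 hF]

/-- `z` is central in the quaternion group -/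
theorem za (h : QD Q e a b c s) (h2 : (2 : F) ≠ 0) (hF : Frame (polarBilin Q) e) : (a * a) * (a * a) = 1 := by
  apply rep_inj
  apply LinearMap.ext
  intro v
  rw [mul_ap, h.rz h2 hF, (h.rel h2 hF).ZZ, map_one]
  rfl

end QD

end Cfsg.Agent.H170.RV
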