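import Cfsg.Agent.H170.RV.OmPl

/-!
# A 3-group on a 6-space (helper170)
-/

set_option autoImplicit false
set_option linter.unusedSectionVars false

namespace Cfsg.Agent.H170.RV

open Module QuadraticMap Cfsg.Agent.H167.OP Cfsg.Agent.H170.HL Cfsg.Agent.H170.HL.OmRow Cfsg.Agent.H556.Om

variable {F : Type*} [Field F] {ι : Type} [Fintype ι] [DecidableEq ι] {Q : QuadraticForm F (ι → F)}

/-- vectors of prescribed norm orthogonal to a family -/
theorem exists_norm {J : Type*} [Fintype J] [DecidableEq J] [Finite F] (hnd : (polarBilin Q).Nondegenerate)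
    (h2 : (2 : F) ≠ 0) {e : J → ι → F}
    (he : ∀ j, polarBilin Q (e j) (e j) ≠ 0) (ho : ∀ i j, i ≠ j → polarBilin Q (e i) (e j) = 0)
    (hc : Fintype.card J + 2 ≤ Fintype.card ι) (d : F) :
    ∃ w, (∀ j, polarBilin Q (e j) w = 0) ∧ polarBilin Q w w = d := by
  classical
  have : Fintype F := Fintype.ofFinite F
  obtain ⟨x, hx, hx0⟩ := exists_next hnd h2 (x := e) he ho (by omega)
  obtain ⟨y, hy, hy0⟩ := exists_next hnd h2 (x := fun o : Option J => o.elim x e) (by
    rintro (_ | j)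
    · exact hx0
    · exact he j) (by
    rintro (_ | i) (_ | j) hij
    · exact absurd rfl hij
    · show polarBilin Q x (e j) = 0
      rw [polar_symm, hx]
    · exact hx i
    · exact ho i j fun h => hij (congrArg some h)) (by
    rw [Fintype.card_option]; omega)
  have hyx : polarBilin Q x y = 0 := hy none
  have hye : ∀ j, polarBilin Q (e j) y = 0 := fun j => hy (some j)
  obtain ⟨a, b, hab⟩ := FiniteField.exists_root_sum_quadratic (R := F)
    (f := Polynomial.C (polarBilin Q x x) * Polynomial.X ^ 2 + Polynomial.C 0 * Polynomial.X + Polynomial.C (-d))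
    (g := Polynomial.C (polarBilin Q y y) * Polynomial.X ^ 2 + Polynomial.C 0 * Polynomial.X + Polynomial.C 0)
    (Polynomial.degree_quadratic hx0) (Polynomial.degree_quadratic hy0) (by
      have hchar : ringChar F ≠ 2 := by
        intro h
        apply h2
        have := ringChar.Nat.cast_ringChar (R := F)
        rw [h] at this
        exact_mod_cast this
      exact FiniteField.odd_card_of_char_ne_two hchar)
  refine ⟨a • x + b • y, fun j => ?_, ?_⟩
  · rw [map_add, map_smul, map_smul, hx, hye, smul_zero, smul_zero, add_zero]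
  · have e1 : polarBilin Q (a • x + b • y) (a • x + b • y) = a * (a * polarBilin Q x x) +
        a * (b * polarBilin Q x y) + (b * (a * polarBilin Q y x) + b * (b * polarBilin Q y y)) := by
      simp only [map_add, map_smul, LinearMap.add_apply, LinearMap.smul_apply, smul_eq_mul]
      ring
    rw [e1, polar_symm y x, hyx]
    simp only [Polynomial.eval_add, Polynomial.eval_mul, Polynomial.eval_pow, Polynomial.eval_C, Polynomial.eval_X]
      at hab
    linear_combination hab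

/-- orthogonal families with prescribed norms -/
theorem exists_orth_fam [Finite F] (hnd : (polarBilin Q).Nondegenerate) (h2 : (2 : F) ≠ 0) (n : ℕ)
    (hn : n + 1 ≤ Fintype.card ι) (d : ℕ → F) (hd : ∀ i, d i ≠ 0) :
    ∃ x : Fin n → ι → F, (∀ i, polarBilin Q (x i) (x i) = d i) ∧ ∀ i j, i ≠ j → polarBilin Q (x i) (x j) = 0 := by
  induction n with
  | zero => exact ⟨fun i => i.elim0, fun i => i.elim0, fun i => i.elim0⟩
  | succ n ih =>
    obtain ⟨x, hx, ho⟩ := ih (by omega)
    obtain ⟨w, hw, hwd⟩ := exists_norm hnd h2 (e := x) (fun j => by rw [hx]; exact hd _) ho (by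
      rw [Fintype.card_fin]; omega) (d n)
    refine ⟨Fin.snoc x w, fun i => ?_, fun i j => ?_⟩
    · refine Fin.lastCases ?_ (fun i => ?_) i
      · rw [Fin.snoc_last, hwd]; rfl
      · rw [Fin.snoc_castSucc, hx]; rfl
    · refine Fin.lastCases ?_ (fun i => ?_) i <;> refine Fin.lastCases ?_ (fun j => ?_) j
      · intro h; exact absurd rfl h
      · intro _
        rw [Fin.snoc_last, Fin.snoc_castSucc, polar_symm, hw]
      · intro _
        rw [Fin.snoc_last, Fin.snoc_castSucc, hw]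
      · intro h
        rw [Fin.snoc_castSucc, Fin.snoc_castSucc]
        exact ho i j fun h' => h (congrArg Fin.castSucc h')

/-! ### The rotation -/

/-- the rotation of the plane -/
noncomputable def yop (Q : QuadraticForm F (ι → F)) (A B : ι → F) : Module.End F (ι → F) :=
  1 - (polarBilin Q A).smulRight A - (polarBilin Q B).smulRight (A + B)

theorem yop_apply (A B v : ι → F) : yop Q A B v = v - polarBilin Q A v • A - polarBilin Q B v • (A + B) := rfl

section

variable {A B : ι → F} (hA : polarBilin Q A A = 2) (hB : polarBilin Q B B = 2) (hAB : polarBilin Q A B = -1)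

include hA hB hAB

theorem yop_A (v : ι → F) : polarBilin Q A (yop Q A B v) = -polarBilin Q A v - polarBilin Q B v := by
  rw [yop_apply, map_sub, map_sub, map_smul, map_smul, map_add, hA, hAB, smul_eq_mul, smul_eq_mul]
  ring

theorem yop_B (v : ι → F) : polarBilin Q B (yop Q A B v) = polarBilin Q A v := by
  rw [yop_apply, map_sub, map_sub, map_smul, map_smul, map_add, polar_symm B A, hB, hAB, smul_eq_mul, smul_eq_mul]
  ring

theorem yop_two (v : ι → F) : yop Q A B (yop Q A B v) = v - polarBilin Q A v • A -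
    (polarBilin Q A v + polarBilin Q B v) • B := by
  rw [yop_apply (v := yop Q A B v), yop_A hA hB hAB, yop_B hA hB hAB, yop_apply]
  module

theorem yop_three (v : ι → F) : yop Q A B (yop Q A B (yop Q A B v)) = v := by
  rw [yop_two hA hB hAB (yop Q A B v), yop_A hA hB hAB, yop_B hA hB hAB, yop_apply]
  module

theorem yop_form (u v : ι → F) : polarBilin Q (yop Q A B u) (yop Q A B v) = polarBilin Q u v := by
  have h1 : polarBilin Q (yop Q A B u) (yop Q A B v) = polarBilin Q (yop Q A B u) v -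
      polarBilin Q A v * polarBilin Q A (yop Q A B u) - polarBilin Q B v * (polarBilin Q A (yop Q A B u) +
        polarBilin Q B (yop Q A B u)) := by
    rw [yop_apply (v := v), map_sub, map_sub, map_smul, map_smul, map_add, polar_symm (yop Q A B u) A,
      polar_symm (yop Q A B u) B, smul_eq_mul, smul_eq_mul]
  have h3 : polarBilin Q (yop Q A B u) v = polarBilin Q u v -
      polarBilin Q A u * polarBilin Q A v - polarBilin Q B u * (polarBilin Q A v + polarBilin Q B v) := by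
    rw [polar_symm (yop Q A B u) v, yop_apply, map_sub, map_sub, map_smul, map_smul, map_add, polar_symm v A,
      polar_symm v B, smul_eq_mul, smul_eq_mul, polar_symm v u]
  rw [h1, h3, yop_A hA hB hAB, yop_B hA hB hAB]
  ring

end

theorem exists_y (hQ : GoodQ Q) (h2 : (2 : F) ≠ 0) {A B : ι → F} (hA : polarBilin Q A A = 2)
    (hB : polarBilin Q B B = 2) (hAB : polarBilin Q A B = -1) :
    ∃ y : Cfsg.Omega F (⇑Q), IsY Q A B y ∧ y ^ 3 = 1 := by
  have h3 : yop Q A B * (yop Q A B * yop Q A B) = 1 := LinearMap.ext fun v => yop_three hA hB hAB v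
  obtain ⟨g, hg⟩ := exists_of_iso (⇑Q) (yop Q A B) (yop Q A B * yop Q A B) h3
    (by rw [mul_assoc, h3]) (Q_eq_of h2 (yop_form hA hB hAB))
  have hg3 : g ^ 3 = 1 := by
    apply rep_injective (inc'_injective (Q := ⇑Q))
    rw [pow_succ, pow_two, map_mul, map_mul, map_one, hg, mul_assoc, h3]
  refine ⟨⟨g, mem_omega_of_odd hQ (t := 3) (by decide) hg3⟩, fun v => ?_, Subtype.ext hg3⟩
  have : rep (inc (⇑Q)) ⟨g, mem_omega_of_odd hQ (t := 3) (by decide) hg3⟩ = rep (inc' (⇑Q)) g := rfl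
  rw [this, hg, yop_apply]

/-! ### The permutation of the planes -/

theorem exists_cyc (hQ : GoodQ Q) (h2 : (2 : F) ≠ 0) {r : F} (hr : r ≠ 0) {e : Fin 3 → ι → F}
    (hF : Frame (r • polarBilin Q) e) :
    ∃ g : Cfsg.Omega F (⇑Q), g ^ 3 = 1 ∧ (∀ i, rep (inc (⇑Q)) g (e i) = e (i + 1)) ∧
      ∀ v, (∀ i, polarBilin Q (e i) v = 0) → rep (inc (⇑Q)) g v = v := by
  have hsymm : ∀ u v, (r • polarBilin Q) u v = (r • polarBilin Q) v u := by
    intro u v
    rw [LinearMap.smul_apply, LinearMap.smul_apply, LinearMap.smul_apply, LinearMap.smul_apply, polar_symm]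
  let z := mono (r • polarBilin Q) e (fun _ => 1) (fun i : Fin 3 => i + 1)
  have h3 : z * (z * z) = 1 := by
    simp only [z]
    rw [mono_mul hF h2, mono_mul hF h2]
    refine mono_one hF h2 (fun _ => by rw [one_mul, one_mul]) fun j => ?_
    revert j
    decide
  have hform : ∀ u v, polarBilin Q (z u) (z v) = polarBilin Q u v := by
    intro u v
    have h1 := mono_form (s := fun _ => (1 : F)) (σ := fun i : Fin 3 => i + 1) hsymm hF h2 (fun _ => one_mul 1)
      (fun i j h => add_right_cancel h) u v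
    rw [LinearMap.smul_apply, LinearMap.smul_apply, LinearMap.smul_apply, LinearMap.smul_apply, smul_eq_mul,
      smul_eq_mul] at h1
    exact mul_left_cancel₀ hr h1
  obtain ⟨g, hg⟩ := exists_of_iso (⇑Q) z (z * z) h3 (by rw [mul_assoc, h3]) (Q_eq_of h2 hform)
  have hg3 : g ^ 3 = 1 := by
    apply rep_injective (inc'_injective (Q := ⇑Q))
    rw [pow_succ, pow_two, map_mul, map_mul, map_one, hg, mul_assoc, h3]
  have hrep : rep (inc (⇑Q)) ⟨g, mem_omega_of_odd hQ (t := 3) (by decide) hg3⟩ = z := hg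
  refine ⟨⟨g, mem_omega_of_odd hQ (t := 3) (by decide) hg3⟩, Subtype.ext hg3, fun i => ?_, fun v hv => ?_⟩
  · rw [hrep]
    exact (mono_e hF h2 i).trans (one_smul _ _)
  · rw [hrep]
    exact mono_orth fun j => by
      rw [LinearMap.smul_apply, LinearMap.smul_apply, hv j, smul_zero]

/-! ### 3-groups -/

theorem closure_pgroup {G : Type*} [Group G] {p : ℕ} {S : Set G} (hc : ∀ x ∈ S, ∀ y ∈ S, x * y = y * x)
    (h : ∀ x ∈ S, x ^ p = 1) : IsPGroup p (Subgroup.closure S) := by
  have h1 : Subgroup.closure S ≤ Subgroup.centralizer S := by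
    rw [Subgroup.closure_le]
    intro x hx
    rw [SetLike.mem_coe, Subgroup.mem_centralizer_iff]
    exact fun y hy => hc y hy x hx
  have h2 : Subgroup.closure S ≤ Subgroup.centralizer (Subgroup.closure S : Set G) := by
    rw [Subgroup.closure_le]
    intro x hx
    rw [SetLike.mem_coe, Subgroup.mem_centralizer_iff]
    intro y hy
    exact (Subgroup.mem_centralizer_iff.mp (h1 hy) x hx).symm
  have h3 : ∀ x ∈ Subgroup.closure S, x ^ p = 1 := by
    intro x hx
    induction hx using Subgroup.closure_induction with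
    | mem x hx => exact h x hx
    | one => exact one_pow p
    | mul x y hx hy ihx ihy =>
      have : Commute x y := (Subgroup.mem_centralizer_iff.mp (h2 hy) x hx)
      rw [this.mul_pow, ihx, ihy, one_mul]
    | inv x hx ihx => rw [inv_pow, ihx, inv_one]
  rintro ⟨x, hx⟩
  refine ⟨1, Subtype.ext ?_⟩
  show x ^ p ^ 1 = 1
  rw [pow_one]
  exact h3 x hx

/-- the 3-group -/
theorem exists_three [Finite F] (hQ : GoodQ Q) (h2 : (2 : F) ≠ 0) (h3 : (3 : F) ≠ 0) (hc : 7 ≤ Fintype.card ι) :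
    ∃ (A B : Fin 3 → ι → F) (y σ : Cfsg.Omega F (⇑Q)), Pl Q A B ∧ IsY Q (A 0) (B 0) y ∧ IsS Q A B σ ∧
      ∃ T : Subgroup (Cfsg.Omega F (⇑Q)), IsPGroup 3 T ∧ y ∈ T ∧ σ ∈ T := by
  have hfin : Finite (Cfsg.Omega F (⇑Q)) := inferInstance
  obtain ⟨x, hx, ho⟩ := exists_orth_fam hQ.nd h2 6 (by omega) (fun i => if i < 3 then 2 else 3 * (2 : F)⁻¹) (by
    intro i
    show (if i < 3 then (2 : F) else 3 * (2 : F)⁻¹) ≠ 0
    split_ifs
    · exact h2
    · exact mul_ne_zero h3 (inv_ne_zero h2))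
  obtain ⟨A, hA⟩ : ∃ A : Fin 3 → ι → F, A = fun i => x (Fin.castAdd 3 i) := ⟨_, rfl⟩
  obtain ⟨c, hcd⟩ : ∃ c : Fin 3 → ι → F, c = fun i => x (Fin.natAdd 3 i) := ⟨_, rfl⟩
  have hAA : ∀ i, polarBilin Q (A i) (A i) = 2 := by
    intro i
    rw [hA]
    show polarBilin Q (x (Fin.castAdd 3 i)) (x (Fin.castAdd 3 i)) = 2
    rw [hx, if_pos (by rw [Fin.val_castAdd]; exact i.2)]
  have hCC : ∀ i, polarBilin Q (c i) (c i) = 3 * (2 : F)⁻¹ := by
    intro i
    rw [hcd]
    show polarBilin Q (x (Fin.natAdd 3 i)) (x (Fin.natAdd 3 i)) = _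
    rw [hx, if_neg (by rw [Fin.val_natAdd]; omega)]
  have hAA' : ∀ i j, i ≠ j → polarBilin Q (A i) (A j) = 0 := by
    intro i j hij
    rw [hA]
    exact ho _ _ fun h => hij (Fin.castAdd_injective 3 3 h)
  have hCC' : ∀ i j, i ≠ j → polarBilin Q (c i) (c j) = 0 := by
    intro i j hij
    rw [hcd]
    exact ho _ _ fun h => hij (Fin.natAdd_injective 3 3 h)
  have hAC : ∀ i j, polarBilin Q (A i) (c j) = 0 := by
    intro i j
    rw [hA, hcd]
    refine ho _ _ fun h => ?_
    have := congrArg Fin.val h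
    rw [Fin.val_castAdd, Fin.val_natAdd] at this
    omega
  obtain ⟨B, hB⟩ : ∃ B : Fin 3 → ι → F, B = fun i => c i - (2 : F)⁻¹ • A i := ⟨_, rfl⟩
  have hBi : ∀ i, B i = c i - (2 : F)⁻¹ • A i := fun i => by rw [hB]
  have hAB : ∀ i j, polarBilin Q (A i) (B j) = -(2 : F)⁻¹ * polarBilin Q (A i) (A j) := by
    intro i j
    rw [hBi, map_sub, hAC, map_smul, smul_eq_mul]
    ring
  have hBB : ∀ i j, polarBilin Q (B i) (B j) = polarBilin Q (c i) (c j) +
      (2 : F)⁻¹ * (2 : F)⁻¹ * polarBilin Q (A i) (A j) := by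
    intro i j
    have h1 : polarBilin Q (B i) (B j) = polarBilin Q (c i) (B j) - (2 : F)⁻¹ * polarBilin Q (A i) (B j) := by
      rw [hBi i, map_sub, map_smul, LinearMap.sub_apply, LinearMap.smul_apply, smul_eq_mul]
    rw [h1, hAB, hBi j, map_sub, map_smul, smul_eq_mul, polar_symm (c i) (A j), hAC]
    ring
  have h22 : (2 : F)⁻¹ * 2 = 1 := inv_mul_cancel₀ h2
  have hP : Pl Q A B :=
    { AA := hAA
      BB := fun i => by
        rw [hBB, hCC, hAA]
        linear_combination (2 + (2 : F)⁻¹) * h22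
      AB := fun i => by
        rw [hAB, hAA]
        linear_combination -h22
      AA' := hAA'
      AB' := fun i j hij => by rw [hAB, hAA' i j hij, mul_zero]
      BB' := fun i j hij => by rw [hBB, hCC' i j hij, hAA' i j hij, mul_zero, add_zero] }
  obtain ⟨y, hy, hy3⟩ := exists_y hQ h2 (hP.AA 0) (hP.BB 0) (hP.AB 0)
  obtain ⟨σ1, h11, h12, h13⟩ := exists_cyc hQ h2 (r := 1) one_ne_zero (e := A) ⟨fun i => by
      rw [one_smul]; exact hAA i, fun i j hij => by rw [one_smul]; exact hAA' i j hij⟩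
  have h43 : (4 : F) * (3 : F)⁻¹ ≠ 0 := by
    refine mul_ne_zero ?_ (inv_ne_zero h3)
    have : (4 : F) = 2 * 2 := by norm_num
    rw [this]
    exact mul_ne_zero h2 h2
  obtain ⟨σ2, h21, h22', h23⟩ := exists_cyc hQ h2 (r := (4 : F) * (3 : F)⁻¹) h43 (e := c) ⟨fun i => by
      rw [LinearMap.smul_apply, LinearMap.smul_apply, hCC, smul_eq_mul]
      have h33 : (3 : F)⁻¹ * 3 = 1 := inv_mul_cancel₀ h3
      linear_combination (4 * (2 : F)⁻¹) * h33 + 2 * h22,
    fun i j hij => by rw [LinearMap.smul_apply, LinearMap.smul_apply, hCC' i j hij, smul_zero]⟩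
  have hcomm : σ1 * σ2 = σ2 * σ1 := comm_of_orth h13 h23 hAC
  have hσ3 : (σ1 * σ2) ^ 3 = 1 := by
    rw [(show Commute σ1 σ2 from hcomm).mul_pow, h11, h21, one_mul]
  have hS : IsS Q A B (σ1 * σ2) := by
    have e1 : ∀ i, rep (inc (⇑Q)) (σ1 * σ2) (A i) = A (i + 1) := by
      intro i
      rw [mul_ap, h23 _ (fun j => by rw [polar_symm, hAC]), h12]
    refine ⟨e1, fun i => ?_, fun v hA hB => ?_⟩
    · have e2 : rep (inc (⇑Q)) (σ1 * σ2) (c i) = c (i + 1) := by
        rw [mul_ap, h22', h13 _ fun j => hAC j _]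
      rw [hBi, map_sub, map_smul, e1, e2, hBi]
    · have hC : ∀ i, polarBilin Q (c i) v = 0 := by
        intro i
        have h1 := hB i
        rw [hBi, map_sub, map_smul, LinearMap.sub_apply, LinearMap.smul_apply, hA, smul_zero, sub_zero] at h1
        exact h1
      rw [mul_ap, h23 v hC, h13 v hA]
  refine ⟨A, B, y, σ1 * σ2, hP, hy, hS, ?_⟩
  obtain ⟨σ, hσ⟩ : ∃ σ, σ = σ1 * σ2 := ⟨_, rfl⟩
  rw [← hσ] at hS hσ3 ⊢
  -- the conjugates of `y`
  let Y : Fin 3 → Cfsg.Omega F (⇑Q) := fun i => σ ^ (i : ℕ) * y * (σ ^ (i : ℕ))⁻¹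
  have hpow : ∀ i : Fin 3, rep (inc (⇑Q)) (σ ^ (i : ℕ)) (A 0) = A i ∧ rep (inc (⇑Q)) (σ ^ (i : ℕ)) (B 0) = B i := by
    intro i
    fin_cases i
    · show rep (inc (⇑Q)) (σ ^ 0) (A 0) = A 0 ∧ rep (inc (⇑Q)) (σ ^ 0) (B 0) = B 0
      rw [pow_zero, one_ap, one_ap]
      exact ⟨rfl, rfl⟩
    · show rep (inc (⇑Q)) (σ ^ 1) (A 0) = A (0 + 1) ∧ rep (inc (⇑Q)) (σ ^ 1) (B 0) = B (0 + 1)
      rw [pow_one, hS.hA, hS.hB]
      exact ⟨rfl, rfl⟩
    · show rep (inc (⇑Q)) (σ ^ 2) (A 0) = A (0 + 1 + 1) ∧ rep (inc (⇑Q)) (σ ^ 2) (B 0) = B (0 + 1 + 1)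
      rw [pow_two, mul_ap, mul_ap, hS.hA, hS.hB, hS.hA, hS.hB]
      exact ⟨rfl, rfl⟩
  have hYY : ∀ i, IsY Q (A i) (B i) (Y i) := by
    intro i
    have h1 := hy.map (σ ^ (i : ℕ))
    rwa [(hpow i).1, (hpow i).2] at h1
  have hYc : ∀ i j, i ≠ j → Y i * Y j = Y j * Y i := by
    intro i j hij
    have hfix : ∀ i v, (∀ b : Bool, polarBilin Q (if b then A i else B i) v = 0) → rep (inc (⇑Q)) (Y i) v = v := by
      intro i v hv
      have h1 : polarBilin Q (A i) v = 0 := hv true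
      have h4 : polarBilin Q (B i) v = 0 := hv false
      rw [hYY i v, h1, h4, zero_smul, zero_smul, sub_zero, sub_zero]
    refine comm_of_orth (hfix i) (hfix j) ?_
    rintro (_ | _) (_ | _)
    · exact hP.BB' i j hij
    · exact (polar_symm _ _).trans (hP.AB' j i hij.symm)
    · exact hP.AB' i j hij
    · exact hP.AA' i j hij
  have hY3 : ∀ i, Y i ^ 3 = 1 := by
    intro i
    show (σ ^ (i : ℕ) * y * (σ ^ (i : ℕ))⁻¹) ^ 3 = 1
    rw [conj_pow, hy3, mul_one, mul_inv_cancel]
  have hN : IsPGroup 3 (Subgroup.closure (Set.range Y)) := by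
    refine closure_pgroup ?_ ?_
    · rintro _ ⟨i, rfl⟩ _ ⟨j, rfl⟩
      by_cases hij : i = j
      · rw [hij]
      · exact hYc i j hij
    · rintro _ ⟨i, rfl⟩
      exact hY3 i
  have hZ : IsPGroup 3 (Subgroup.zpowers σ) := by
    have : Subgroup.zpowers σ = Subgroup.closure {σ} := Subgroup.zpowers_eq_closure σ
    rw [this]
    refine closure_pgroup ?_ ?_
    · rintro _ rfl _ rfl; rfl
    · rintro _ rfl; exact hσ3
  have hcyc : ∀ i, σ * Y i * σ⁻¹ = Y (i + 1) := by
    intro i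
    fin_cases i
    · show σ * (σ ^ 0 * y * (σ ^ 0)⁻¹) * σ⁻¹ = σ ^ 1 * y * (σ ^ 1)⁻¹
      group
    · show σ * (σ ^ 1 * y * (σ ^ 1)⁻¹) * σ⁻¹ = σ ^ 2 * y * (σ ^ 2)⁻¹
      group
    · show σ * (σ ^ 2 * y * (σ ^ 2)⁻¹) * σ⁻¹ = σ ^ 0 * y * (σ ^ 0)⁻¹
      have e1 : σ * (σ ^ 2 * y * (σ ^ 2)⁻¹) * σ⁻¹ = σ ^ 3 * y * (σ ^ 3)⁻¹ := by group
      rw [e1, hσ3, pow_zero]
  have hnorm : Subgroup.zpowers σ ≤ Subgroup.normalizer (Subgroup.closure (Set.range Y) : Set (Cfsg.Omega F (⇑Q))) := by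
    rw [Subgroup.zpowers_le]
    apply Subgroup.mem_normalizer_fintype
    intro n hn
    rw [SetLike.mem_coe] at hn ⊢
    induction hn using Subgroup.closure_induction with
    | mem n hn =>
      obtain ⟨i, rfl⟩ := hn
      rw [hcyc]
      exact Subgroup.subset_closure ⟨_, rfl⟩
    | one => rw [mul_one, mul_inv_cancel]; exact one_mem _
    | mul a b _ _ iha ihb =>
      have : σ * (a * b) * σ⁻¹ = (σ * a * σ⁻¹) * (σ * b * σ⁻¹) := by group
      rw [this]
      exact mul_mem iha ihb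
    | inv a _ iha =>
      have : σ * a⁻¹ * σ⁻¹ = (σ * a * σ⁻¹)⁻¹ := by group
      rw [this]
      exact inv_mem iha
  refine ⟨Subgroup.zpowers σ ⊔ Subgroup.closure (Set.range Y), hZ.to_sup_of_normal_right' hN hnorm, ?_, ?_⟩
  · apply Subgroup.mem_sup_right
    apply Subgroup.subset_closure
    refine ⟨0, ?_⟩
    show σ ^ 0 * y * (σ ^ 0)⁻¹ = y
    group
  · exact Subgroup.mem_sup_left (Subgroup.mem_zpowers σ)

end Cfsg.Agent.H170.RV
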